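import Groth.Agent.HensGlueLib.Base
import Groth.Agent.HensSchFFLib.Sph
import Mathlib.Algebra.TrivSqZeroExt.Basic

/-!
# The sheaf condition for `A`-algebras of henselized localizations, with module coefficients
-/

set_option autoImplicit false
set_option maxHeartbeats 1000000
set_option linter.style.haveILetI false
set_option linter.unusedSectionVars false
set_option backward.isDefEq.respectTransparency false
set_option backward.isDefEq.respectTransparency.types false
universe u

open HensSch
open scoped TensorProduct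

noncomputable section

namespace HensGlueLib

/-- Henselized localizations do not change when localizing the base. -/
theorem isHensAway_localization {R : Type u} [CommRing R] {I : Ideal R} (f g : R) {T : Type u} [CommRing T]
    (φ : R →+* T) (h : IsHensAway R I g T φ) (φ' : Localization.Away f →+* T)
    (hφ' : φ'.comp (algebraMap R (Localization.Away f)) = φ) :
    IsHensAway (Localization.Away f) (I.map (algebraMap R (Localization.Away f)))
      (algebraMap R (Localization.Away f) g) T φ' := by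
  obtain ⟨hu, hh, huniv⟩ := h
  subst hφ'
  refine ⟨hu, by rw [Ideal.map_map]; exact hh, fun C _ J k hC hk hkg => ?_⟩
  obtain ⟨m, hm, hmu⟩ := huniv C J (k.comp (algebraMap R _)) hC (by rw [← Ideal.map_map]; exact hk) hkg
  refine ⟨m, IsLocalization.ringHom_ext (Submonoid.powers f) (by rw [RingHom.comp_assoc]; exact hm),
    fun m' hm' => hmu m' ?_⟩
  show m'.comp _ = _
  rw [← RingHom.comp_assoc, hm']

/-- The sheaf condition for henselized localizations. -/
theorem sheaf_condition_away {R : Type u} [CommRing R] {I : Ideal R} (f : R) {ι : Type u} (g : ι → R)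
    (hcov : ∀ p : PrimeSpectrum R, I ≤ p.asIdeal → f ∉ p.asIdeal → ∃ i, g i ∉ p.asIdeal)
    {H : Type u} [CommRing H] (φ : R →+* H) (hH : IsHensAway R I f H φ)
    {Hi : ι → Type u} [∀ i, CommRing (Hi i)] (φi : ∀ i, R →+* Hi i) (hHi : ∀ i, IsHensAway R I (g i) (Hi i) (φi i))
    {Hij : ι → ι → Type u} [∀ i j, CommRing (Hij i j)] (φij : ∀ i j, R →+* Hij i j)
    (hHij : ∀ i j, IsHensAway R I (g i * g j) (Hij i j) (φij i j))
    (ρ : ∀ i, H →+* Hi i) (hρ : ∀ i, (ρ i).comp φ = φi i)
    (σ : ∀ i j, Hi i →+* Hij i j) (hσ : ∀ i j, (σ i j).comp (φi i) = φij i j)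
    (τ : ∀ i j, Hi j →+* Hij i j) (hτ : ∀ i j, (τ i j).comp (φi j) = φij i j) :
    (∀ x y : H, (∀ i, ρ i x = ρ i y) → x = y) ∧
    ∀ s : ∀ i, Hi i, (∀ i j, σ i j (s i) = τ i j (s j)) → ∃ x : H, ∀ i, ρ i x = s i := by
  classical
  let L := Localization.Away f
  let κ := algebraMap R L
  have ufi : ∀ i, IsUnit (φi i f) := fun i => by rw [← hρ i]; exact hH.1.map (ρ i)
  have ufij : ∀ i j, IsUnit (φij i j f) := fun i j => by rw [← hσ i j]; exact (ufi i).map (σ i j)
  let ψ : L →+* H := IsLocalization.Away.lift f hH.1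
  have hψ : ψ.comp κ = φ := IsLocalization.Away.lift_comp f hH.1
  let ψi : ∀ i, L →+* Hi i := fun i => IsLocalization.Away.lift f (ufi i)
  have hψi : ∀ i, (ψi i).comp κ = φi i := fun i => IsLocalization.Away.lift_comp f (ufi i)
  let ψij : ∀ i j, L →+* Hij i j := fun i j => IsLocalization.Away.lift f (ufij i j)
  have hψij : ∀ i j, (ψij i j).comp κ = φij i j := fun i j => IsLocalization.Away.lift_comp f (ufij i j)
  let g' : ι → L := fun i => κ (g i)
  have hi : ∀ i, IsHensAway L (I.map κ) (g' i) (Hi i) (ψi i) := fun i =>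
    isHensAway_localization f (g i) (φi i) (hHi i) (ψi i) (hψi i)
  have hij : ∀ i j, IsHensAway L (I.map κ) (g' i * g' j) (Hij i j) (ψij i j) := fun i j => by
    rw [← map_mul]
    exact isHensAway_localization f (g i * g j) (φij i j) (hHij i j) (ψij i j) (hψij i j)
  letI : Algebra L H := ψ.toAlgebra
  have hH' := HensSchFFLib.isPairHenselization_away hH hψ
  letI : ∀ i, Algebra L (Hi i) := fun i => (ψi i).toAlgebra
  letI : ∀ i, Algebra (Localization.Away (g' i)) (Hi i) := fun i =>
    (IsLocalization.Away.lift (g' i) (hi i).1).toAlgebra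
  haveI : ∀ i, IsScalarTower L (Localization.Away (g' i)) (Hi i) := fun i =>
    IsScalarTower.of_algebraMap_eq (R := L) (S := Localization.Away (g' i)) (A := Hi i) fun x => (IsLocalization.Away.lift_eq (g' i) (hi i).1 x).symm
  letI : ∀ i j, Algebra L (Hij i j) := fun i j => (ψij i j).toAlgebra
  letI : ∀ i j, Algebra (Localization.Away (g' i * g' j)) (Hij i j) := fun i j =>
    (IsLocalization.Away.lift (g' i * g' j) (hij i j).1).toAlgebra
  haveI : ∀ i j, IsScalarTower L (Localization.Away (g' i * g' j)) (Hij i j) := fun i j =>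
    IsScalarTower.of_algebraMap_eq (R := L) (S := Localization.Away (g' i * g' j)) (A := Hij i j) fun x => (IsLocalization.Away.lift_eq (g' i * g' j) (hij i j).1 x).symm
  have hcov' : I.map κ ⊔ Ideal.span (Set.range g') = ⊤ := by
    by_contra hne
    obtain ⟨M, hM, hle⟩ := Ideal.exists_le_maximal _ hne
    haveI := hM.isPrime
    obtain ⟨i, hi⟩ := hcov ⟨M.comap κ, Ideal.comap_isPrime κ M⟩ (Ideal.map_le_iff_le_comap.1 (le_sup_left.trans hle))
      (fun hf => hM.ne_top (Ideal.eq_top_of_isUnit_mem _ hf (IsLocalization.Away.algebraMap_isUnit f)))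
    exact hi (hle (Ideal.mem_sup_right (Ideal.subset_span ⟨i, rfl⟩)))
  exact sheaf_condition g' hcov' hH' Hi
    (fun i => HensSchFFLib.isPairHenselization_away (hi i) (IsLocalization.Away.lift_comp (g' i) (hi i).1)) Hij
    (fun i j => HensSchFFLib.isPairHenselization_away (hij i j) (IsLocalization.Away.lift_comp (g' i * g' j) (hij i j).1))
    (fun i => { toRingHom := ρ i, commutes' := RingHom.congr_fun (IsLocalization.ringHom_ext (Submonoid.powers f)
      (show ((ρ i).comp ψ).comp κ = (ψi i).comp κ by rw [RingHom.comp_assoc, hψ, hρ, hψi])) })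
    (fun i j => { toRingHom := σ i j, commutes' := RingHom.congr_fun (IsLocalization.ringHom_ext (Submonoid.powers f)
      (show ((σ i j).comp (ψi i)).comp κ = (ψij i j).comp κ by rw [RingHom.comp_assoc, hψi, hσ, hψij])) })
    (fun i j => { toRingHom := τ i j, commutes' := RingHom.congr_fun (IsLocalization.ringHom_ext (Submonoid.powers f)
      (show ((τ i j).comp (ψi j)).comp κ = (ψij i j).comp κ by rw [RingHom.comp_assoc, hψi, hτ, hψij])) })

/-- Henselized localizations commute with integral base change. -/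
theorem isHensAway_tensor {A A' : Type u} [CommRing A] [CommRing A'] [Algebra A A'] [Algebra.IsIntegral A A']
    {I : Ideal A} {f : A} {S : Type u} [CommRing S] [Algebra A S] (h : IsHensAway A I f S (algebraMap A S)) :
    IsHensAway A' (I.map (algebraMap A A')) (algebraMap A A' f) (S ⊗[A] A')
      (Algebra.TensorProduct.includeRight (R := A) (A := S) (B := A')).toRingHom := by
  obtain ⟨hu, hh, huniv⟩ := h
  refine ⟨?_, ?_, fun C _ J k hC hk hkf => ?_⟩
  · show IsUnit (Algebra.TensorProduct.includeRight (algebraMap A A' f) : S ⊗[A] A')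
    rw [AlgHom.commutes, IsScalarTower.algebraMap_apply A S (S ⊗[A] A')]
    exact hu.map _
  · rw [Ideal.map_map, AlgHom.toRingHom_eq_coe, AlgHom.comp_algebraMap, IsScalarTower.algebraMap_eq A S (S ⊗[A] A'),
      ← Ideal.map_map]
    exact HenselLib.henselianRing_map_of_isIntegral
  letI : Algebra A C := (k.comp (algebraMap A A')).toAlgebra
  let k' : A' →ₐ[A] C := { toRingHom := k, commutes' := fun _ => rfl }
  have hIJ : I.map (algebraMap A C) ≤ J := by
    rw [RingHom.algebraMap_toAlgebra, ← Ideal.map_map]; exact hk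
  obtain ⟨m, hm, hmu⟩ := huniv C J (algebraMap A C) hC hIJ hkf
  let m' : S →ₐ[A] C := { toRingHom := m, commutes' := RingHom.congr_fun hm }
  refine ⟨(Algebra.TensorProduct.lift m' k' fun _ _ => .all _ _).toRingHom, RingHom.ext fun a => ?_, fun n hn => ?_⟩
  · show Algebra.TensorProduct.lift m' k' (fun _ _ => .all _ _) (1 ⊗ₜ[A] a) = k a
    simp [k', m']
  · have hn' : ∀ a, n (1 ⊗ₜ[A] a) = k a := RingHom.congr_fun hn
    have hS : ∀ s, n (s ⊗ₜ[A] 1) = m s := RingHom.congr_fun (hmu (n.comp Algebra.TensorProduct.includeLeftRingHom) (RingHom.ext fun a => by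
      show n (algebraMap A S a ⊗ₜ[A] 1) = algebraMap A C a
      rw [Algebra.TensorProduct.tmul_one_eq_one_tmul, hn']
      rfl))
    refine RingHom.ext fun x => ?_
    induction x using TensorProduct.induction_on with
    | zero => simp
    | add x y hx hy => rw [map_add, map_add, hx, hy]
    | tmul s a =>
      rw [show s ⊗ₜ[A] a = (s ⊗ₜ[A] (1 : A')) * (1 ⊗ₜ[A] a) by simp, map_mul, map_mul, hS, hn']
      show m s * k a = Algebra.TensorProduct.lift m' k' (fun _ _ => .all _ _) (s ⊗ₜ[A] 1) * Algebra.TensorProduct.lift m' k' (fun _ _ => .all _ _) (1 ⊗ₜ[A] a)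
      simp [k', m']

/-- The sheaf condition with coefficients in a module. -/
theorem sheaf_condition_module {A : Type u} [CommRing A] {I : Ideal A} (f : A) {ι : Type u} (g : ι → A)
    (hcov : ∀ p : PrimeSpectrum A, I ≤ p.asIdeal → f ∉ p.asIdeal → ∃ i, g i ∉ p.asIdeal)
    {H : Type u} [CommRing H] [Algebra A H] (hH : IsHensAway A I f H (algebraMap A H))
    {Hi : ι → Type u} [∀ i, CommRing (Hi i)] [∀ i, Algebra A (Hi i)]
    (hHi : ∀ i, IsHensAway A I (g i) (Hi i) (algebraMap A (Hi i)))
    {Hij : ι → ι → Type u} [∀ i j, CommRing (Hij i j)] [∀ i j, Algebra A (Hij i j)]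
    (hHij : ∀ i j, IsHensAway A I (g i * g j) (Hij i j) (algebraMap A (Hij i j)))
    (ρ : ∀ i, H →ₐ[A] Hi i) (σ : ∀ i j, Hi i →ₐ[A] Hij i j) (τ : ∀ i j, Hi j →ₐ[A] Hij i j)
    (M : Type u) [AddCommGroup M] [Module A M] :
    (∀ x : H ⊗[A] M, (∀ i, (ρ i).toLinearMap.rTensor M x = 0) → x = 0) ∧
    ∀ s : ∀ i, Hi i ⊗[A] M, (∀ i j, (σ i j).toLinearMap.rTensor M (s i) = (τ i j).toLinearMap.rTensor M (s j)) →
      ∃ x : H ⊗[A] M, ∀ i, (ρ i).toLinearMap.rTensor M x = s i := by
  letI : Module Aᵐᵒᵖ M := Module.compHom M ((RingHom.id A).fromOpposite mul_comm)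
  haveI : IsCentralScalar A M := ⟨fun _ _ => rfl⟩
  let E := TrivSqZeroExt A M
  haveI : Algebra.IsIntegral A E := ⟨fun x => by
    rw [← TrivSqZeroExt.inl_fst_add_inr_snd_eq x]
    refine IsIntegral.add isIntegral_algebraMap (IsIntegral.of_pow two_pos ?_)
    rw [sq, TrivSqZeroExt.inr_mul_inr]
    exact isIntegral_zero⟩
  let inc : M →ₗ[A] E := TrivSqZeroExt.inrHom A M
  let prj : E →ₗ[A] M := TrivSqZeroExt.sndHom A M
  have hpi : prj.comp inc = LinearMap.id := LinearMap.ext fun m => TrivSqZeroExt.snd_inr A m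
  let T : ∀ {P Q : Type u} [CommRing P] [Algebra A P] [CommRing Q] [Algebra A Q], (P →ₐ[A] Q) → (P ⊗[A] E →ₐ[A] Q ⊗[A] E) :=
    fun r => Algebra.TensorProduct.map r (AlgHom.id A E)
  have hT : ∀ {P Q : Type u} [CommRing P] [Algebra A P] [CommRing Q] [Algebra A Q] (r : P →ₐ[A] Q) (x : P ⊗[A] E),
      T r x = r.toLinearMap.rTensor E x := fun r x => by
    induction x using TensorProduct.induction_on with
    | zero => simp
    | add x y hx hy => rw [map_add, map_add, hx, hy]
    | tmul p e => simp [T]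
  have hnat : ∀ {P Q : Type u} [CommRing P] [Algebra A P] [CommRing Q] [Algebra A Q] (r : P →ₐ[A] Q) {M₁ M₂ : Type u}
      [AddCommGroup M₁] [Module A M₁] [AddCommGroup M₂] [Module A M₂] (l : M₁ →ₗ[A] M₂) (x : P ⊗[A] M₁),
      r.toLinearMap.rTensor M₂ (l.lTensor P x) = l.lTensor Q (r.toLinearMap.rTensor M₁ x) := fun r _ _ _ _ _ _ l x => by
    induction x using TensorProduct.induction_on with
    | zero => simp
    | add x y hx hy => simp only [map_add, hx, hy]
    | tmul p e => simp
  have hret : ∀ {P : Type u} [CommRing P] [Algebra A P] (x : P ⊗[A] M), prj.lTensor P (inc.lTensor P x) = x := fun x => by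
    rw [← LinearMap.lTensor_comp_apply, hpi, LinearMap.lTensor_id, LinearMap.id_apply]
  let R' : ∀ (P : Type u) [CommRing P] [Algebra A P], E →+* P ⊗[A] E := fun P _ _ =>
    (Algebra.TensorProduct.includeRight (R := A) (A := P) (B := E)).toRingHom
  have hRT : ∀ {P Q : Type u} [CommRing P] [Algebra A P] [CommRing Q] [Algebra A Q] (r : P →ₐ[A] Q),
      (T r).toRingHom.comp (R' P) = R' Q := fun r => RingHom.ext fun e => by simp [T, R']
  have hcov' : ∀ p : PrimeSpectrum E, I.map (algebraMap A E) ≤ p.asIdeal → algebraMap A E f ∉ p.asIdeal →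
      ∃ i, algebraMap A E (g i) ∉ p.asIdeal := fun p hp hf =>
    hcov (PrimeSpectrum.comap (algebraMap A E) p) (Ideal.map_le_iff_le_comap.1 hp) hf
  have hij' : ∀ i j, IsHensAway E (I.map (algebraMap A E)) (algebraMap A E (g i) * algebraMap A E (g j))
      (Hij i j ⊗[A] E) (R' (Hij i j)) := fun i j => by
    rw [← map_mul]
    exact isHensAway_tensor (hHij i j)
  obtain ⟨h1, h2⟩ := sheaf_condition_away (algebraMap A E f) (fun i => algebraMap A E (g i)) hcov' (R' H)
    (isHensAway_tensor hH) (fun i => R' (Hi i)) (fun i => isHensAway_tensor (hHi i)) (fun i j => R' (Hij i j)) hij'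
    (fun i => (T (ρ i)).toRingHom) (fun i => hRT (ρ i)) (fun i j => (T (σ i j)).toRingHom) (fun i j => hRT (σ i j))
    (fun i j => (T (τ i j)).toRingHom) (fun i j => hRT (τ i j))
  refine ⟨fun x hx => ?_, fun s hs => ?_⟩
  · have e : inc.lTensor H x = 0 := h1 _ 0 fun i => by
      show T (ρ i) (inc.lTensor H x) = T (ρ i) 0
      rw [map_zero, hT, hnat, hx, map_zero]
    rw [← hret x, e, map_zero]
  · obtain ⟨y, hy⟩ := h2 (fun i => inc.lTensor (Hi i) (s i)) fun i j => by
      show T (σ i j) _ = T (τ i j) _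
      rw [hT, hT, hnat, hnat, hs]
    refine ⟨prj.lTensor H y, fun i => ?_⟩
    rw [hnat, ← hT, show T (ρ i) y = inc.lTensor (Hi i) (s i) from hy i, hret]

end HensGlueLib
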