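import Groth.Agent.HensGlueLib.Cover

/-!
# The sheaf condition for pair henselizations of localizations
-/

set_option autoImplicit false
set_option maxHeartbeats 1000000
set_option linter.style.haveILetI false
set_option linter.unusedSectionVars false
universe u

noncomputable section

namespace HensGlueLib

variable {A : Type u} [CommRing A] {I : Ideal A} {H : Type u} [CommRing H] [Algebra A H]

/-- A henselization of a localized pair is one of the localization of the henselization. -/
theorem isPairHenselization_base (hH : Hens2.IsPairHenselization A I H) (g : A) (g' : H) (hg : g' = algebraMap A H g)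
    {H' : Type u} [CommRing H'] [Algebra (Localization.Away g) H'] [Algebra A H']
    [IsScalarTower A (Localization.Away g) H'] [Algebra (Localization.Away g') H'] (ρ : H →ₐ[A] H')
    (hal : (algebraMap (Localization.Away g') H').comp (algebraMap H (Localization.Away g')) = ρ.toRingHom)
    (hH' : Hens2.IsPairHenselization (Localization.Away g) (I.map (algebraMap A (Localization.Away g))) H') :
    Hens2.IsPairHenselization (Localization.Away g')
      ((I.map (algebraMap A H)).map (algebraMap H (Localization.Away g'))) H' := by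
  have hA : ((algebraMap (Localization.Away g') H').comp (algebraMap H (Localization.Away g'))).comp (algebraMap A H) =
      algebraMap A H' := by
    rw [hal]; exact ρ.comp_algebraMap
  obtain ⟨h1, h2⟩ := hH'
  rw [Ideal.map_map, ← IsScalarTower.algebraMap_eq] at h1
  refine ⟨?_, fun C _ J f hC hf => ?_⟩
  · rwa [Ideal.map_map, Ideal.map_map, hA]
  let e : A →+* C := (f.comp (algebraMap H (Localization.Away g'))).comp (algebraMap A H)
  have hu : IsUnit (e g) := by
    show IsUnit (f (algebraMap H _ (algebraMap A H g)))
    rw [← hg]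
    exact (IsLocalization.Away.algebraMap_isUnit g').map f
  have hl : (IsLocalization.Away.lift g hu : Localization.Away g →+* C).comp (algebraMap A _) = e :=
    IsLocalization.Away.lift_comp g hu
  have hI' : I.map e ≤ J := by
    rw [← Ideal.map_map, ← Ideal.map_map]
    exact hf
  obtain ⟨k, hk, hkuniq⟩ := h2 C J (IsLocalization.Away.lift g hu) hC (by rw [Ideal.map_map, hl]; exact hI')
  have hkA : k.comp (algebraMap A H') = e := by
    rw [IsScalarTower.algebraMap_eq A (Localization.Away g) H', ← RingHom.comp_assoc, hk, hl]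
  have hkρ : k.comp ρ.toRingHom = f.comp (algebraMap H (Localization.Away g')) :=
    (hH.2 C J e hC hI').unique (by rw [RingHom.comp_assoc, AlgHom.toRingHom_eq_coe, ρ.comp_algebraMap, hkA]) rfl
  refine ⟨k, IsLocalization.ringHom_ext (Submonoid.powers g') ?_, fun k' hk' => hkuniq k' ?_⟩
  · rw [RingHom.comp_assoc, hal, hkρ]
  · refine IsLocalization.ringHom_ext (Submonoid.powers g) ?_
    rw [hl, RingHom.comp_assoc, ← IsScalarTower.algebraMap_eq, ← hA, ← RingHom.comp_assoc, ← RingHom.comp_assoc, hk']

/-- Maps out of a henselization are unique. -/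
theorem algHom_unique (hH : Hens2.IsPairHenselization A I H) {C : Type u} [CommRing C] [Algebra A C]
    (hC : HenselianRing C (I.map (algebraMap A C))) (f f' : H →ₐ[A] C) : f = f' :=
  AlgHom.coe_ringHom_injective
    ((hH.2 C _ (algebraMap A C) hC le_rfl).unique f.comp_algebraMap f'.comp_algebraMap)

theorem henselianRing_of_tower {R S : Type u} [CommRing R] [Algebra A R] [CommRing S] [Algebra R S] [Algebra A S]
    [IsScalarTower A R S] (h : Hens2.IsPairHenselization R (I.map (algebraMap A R)) S) :
    HenselianRing S (I.map (algebraMap A S)) := by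
  rw [IsScalarTower.algebraMap_eq A R S, ← Ideal.map_map]
  exact h.1

/-- The sheaf condition. -/
theorem sheaf_condition {ι : Type u} (g : ι → A) (hcov : I ⊔ Ideal.span (Set.range g) = ⊤)
    (hH : Hens2.IsPairHenselization A I H)
    (Hi : ι → Type u) [∀ i, CommRing (Hi i)] [∀ i, Algebra (Localization.Away (g i)) (Hi i)]
    [∀ i, Algebra A (Hi i)] [∀ i, IsScalarTower A (Localization.Away (g i)) (Hi i)]
    (hHi : ∀ i, Hens2.IsPairHenselization (Localization.Away (g i))
      (I.map (algebraMap A (Localization.Away (g i)))) (Hi i))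
    (Hij : ι → ι → Type u) [∀ i j, CommRing (Hij i j)]
    [∀ i j, Algebra (Localization.Away (g i * g j)) (Hij i j)]
    [∀ i j, Algebra A (Hij i j)] [∀ i j, IsScalarTower A (Localization.Away (g i * g j)) (Hij i j)]
    (hHij : ∀ i j, Hens2.IsPairHenselization (Localization.Away (g i * g j))
      (I.map (algebraMap A (Localization.Away (g i * g j)))) (Hij i j))
    (ρ : ∀ i, H →ₐ[A] Hi i) (σ : ∀ i j, Hi i →ₐ[A] Hij i j) (τ : ∀ i j, Hi j →ₐ[A] Hij i j) :
    (∀ x y : H, (∀ i, ρ i x = ρ i y) → x = y) ∧
    ∀ s : ∀ i, Hi i, (∀ i j, σ i j (s i) = τ i j (s j)) → ∃ x : H, ∀ i, ρ i x = s i := by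
  haveI := hH.1
  let g' : ι → H := fun i => algebraMap A H (g i)
  have hu : ∀ i, IsUnit (ρ i (g' i)) := fun i => by
    rw [show ρ i (g' i) = algebraMap A (Hi i) (g i) from (ρ i).commutes (g i),
      IsScalarTower.algebraMap_apply A (Localization.Away (g i)) (Hi i)]
    exact (IsLocalization.Away.algebraMap_isUnit (g i)).map _
  have huij : ∀ i j, IsUnit ((σ i j).comp (ρ i) (g' i * g' j)) := fun i j => by
    rw [← map_mul, AlgHom.commutes, IsScalarTower.algebraMap_apply A (Localization.Away (g i * g j)) (Hij i j)]
    exact (IsLocalization.Away.algebraMap_isUnit (g i * g j)).map _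
  letI a1 : ∀ i, Algebra H (Hi i) := fun i => (ρ i).toRingHom.toAlgebra
  letI a2 : ∀ i, Algebra (Localization.Away (g' i)) (Hi i) := fun i =>
    (IsLocalization.Away.lift (g' i) (g := (ρ i).toRingHom) (hu i)).toAlgebra
  haveI : ∀ i, IsScalarTower H (Localization.Away (g' i)) (Hi i) := fun i =>
    IsScalarTower.of_algebraMap_eq fun x => (IsLocalization.Away.lift_eq (g' i) (hu i) x).symm
  letI a3 : ∀ i j, Algebra H (Hij i j) := fun i j => ((σ i j).comp (ρ i)).toRingHom.toAlgebra
  letI a4 : ∀ i j, Algebra (Localization.Away (g' i * g' j)) (Hij i j) := fun i j =>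
    (IsLocalization.Away.lift (g' i * g' j) (g := ((σ i j).comp (ρ i)).toRingHom) (huij i j)).toAlgebra
  haveI : ∀ i j, IsScalarTower H (Localization.Away (g' i * g' j)) (Hij i j) := fun i j =>
    IsScalarTower.of_algebraMap_eq fun x => (IsLocalization.Away.lift_eq (g' i * g' j) (huij i j) x).symm
  have hcov' : I.map (algebraMap A H) ⊔ Ideal.span (Set.range g') = ⊤ := by
    have := congrArg (Ideal.map (algebraMap A H)) hcov
    rw [Ideal.map_sup, Ideal.map_span, Ideal.map_top, ← Set.range_comp] at this
    exact this
  have hHi' := fun i => isPairHenselization_base hH (g i) (g' i) rfl (ρ i)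
    (IsLocalization.Away.lift_comp (g' i) (hu i)) (hHi i)
  have hHij' := fun i j => isPairHenselization_base hH (g i * g j) (g' i * g' j) (map_mul _ _ _).symm ((σ i j).comp (ρ i))
    (IsLocalization.Away.lift_comp (g' i * g' j) (huij i j)) (hHij i j)
  refine ⟨fun x y h => eq_of_forall g' hcov' Hi hHi' h, fun s hs => ?_⟩
  let σ' : ∀ i j, Hi i →ₐ[H] Hij i j := fun i j => { toRingHom := (σ i j).toRingHom, commutes' := fun _ => rfl }
  let τ' : ∀ i j, Hi j →ₐ[H] Hij i j := fun i j =>
    { toRingHom := (τ i j).toRingHom
      commutes' := fun x => AlgHom.congr_fun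
        (algHom_unique hH (henselianRing_of_tower (hHij i j)) ((τ i j).comp (ρ j)) ((σ i j).comp (ρ i))) x }
  exact exists_of_compatible g' hcov' Hi hHi' Hij hHij' σ' τ' s hs

end HensGlueLib
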