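import Groth.Agent.HensGlueLib.Away

/-!
# Henselized localizations along integral algebras, with module coefficients
-/

set_option autoImplicit false
set_option maxHeartbeats 1000000
set_option linter.style.haveILetI false
set_option linter.unusedSectionVars false
universe u

open scoped TensorProduct

noncomputable section

namespace HensGlueLib

variable {A B : Type u} [CommRing A] [CommRing B] [Algebra A B] [Algebra.IsIntegral A B] {I : Ideal A} {f : A}
  {S : Type u} [CommRing S] [Algebra A S] {T : Type u} [CommRing T] [Algebra B T]

theorem bijective_baseChange (j : S →+* T) (hj : ∀ a, j (algebraMap A S a) = algebraMap B T (algebraMap A B a))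
    (hS : HensSch.IsHensAway A I f S (algebraMap A S))
    (hT : HensSch.IsHensAway B (I.map (algebraMap A B)) (algebraMap A B f) T (algebraMap B T))
    {N : Type u} [AddCommGroup N] [Module B N] [Module A N] [IsScalarTower A B N]
    (K : S ⊗[A] N →+ T ⊗[B] N) (hK : ∀ (s : S) (n : N), K (s ⊗ₜ n) = j s ⊗ₜ n) : Function.Bijective K := by
  letI : Algebra A T := ((algebraMap B T).comp (algebraMap A B)).toAlgebra
  haveI : IsScalarTower A B T := IsScalarTower.of_algebraMap_eq' rfl
  let jA : S →ₐ[A] T := { toRingHom := j, commutes' := hj }
  let L : S ⊗[A] B →ₐ[A] T := Algebra.TensorProduct.productMap jA (IsScalarTower.toAlgHom A B T)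
  have hU := isHensAway_tensor (A' := B) hS
  set ιB : B →+* S ⊗[A] B := (Algebra.TensorProduct.includeRight (R := A) (A := S) (B := B)).toRingHom with hι
  have hL : L.toRingHom.comp ιB = algebraMap B T := RingHom.ext fun b => by simp [L, hι]
  obtain ⟨k, hk, -⟩ := hT.2.2 (S ⊗[A] B) _ ιB hU.2.1 le_rfl hU.1
  have e1 : L.toRingHom.comp k = RingHom.id T := (hT.2.2 T _ (algebraMap B T) hT.2.1 le_rfl hT.1).unique
    (by rw [RingHom.comp_assoc, hk, hL]) (RingHom.id_comp _)
  have e2 : k.comp L.toRingHom = RingHom.id (S ⊗[A] B) := (hU.2.2 (S ⊗[A] B) _ ιB hU.2.1 le_rfl hU.1).unique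
    (by rw [RingHom.comp_assoc, hL, hk]) (RingHom.id_comp _)
  let β : S ⊗[A] B → N →+ S ⊗[A] N := fun x =>
    { toFun := fun n => ((LinearMap.toSpanSingleton B N n).restrictScalars A).lTensor S x
      map_zero' := by
        induction x using TensorProduct.induction_on with
        | zero => simp
        | add a b ha hb => rw [map_add, ha, hb, add_zero]
        | tmul s b => simp
      map_add' := fun n n' => by
        induction x using TensorProduct.induction_on with
        | zero => simp
        | add a b ha hb => simp only [map_add, ha, hb]; abel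
        | tmul s b => simp [TensorProduct.tmul_add, smul_add] }
  have hβ : ∀ (s : S) (b : B) (n : N), β (s ⊗ₜ[A] b) n = s ⊗ₜ[A] (b • n) := fun s b n => by simp [β]
  have hβb : ∀ (b : B) (x : S ⊗[A] B) (n : N), β (ιB b * x) n = β x (b • n) := fun b x n => by
    induction x using TensorProduct.induction_on with
    | zero => simp [β]
    | add u v hu hv =>
      rw [mul_add]
      show (LinearMap.lTensor S _) (ιB b * u + ιB b * v) = (LinearMap.lTensor S _) (u + v)
      rw [map_add, map_add]
      exact congrArg₂ (· + ·) hu hv
    | tmul s c =>
      rw [show ιB b * (s ⊗ₜ[A] c) = s ⊗ₜ[A] (b * c) by simp [hι], hβ, hβ, smul_smul, mul_comm]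
  let G : T ⊗[B] N →+ S ⊗[A] N := TensorProduct.liftAddHom
    { toFun := fun t => β (k t)
      map_zero' := AddMonoidHom.ext fun n => by simp [β]
      map_add' := fun t t' => AddMonoidHom.ext fun n => by simp [β] }
    (fun b t n => by
      show β (k (b • t)) n = β (k t) (b • n)
      rw [Algebra.smul_def, map_mul, show k (algebraMap B T b) = ιB b from RingHom.congr_fun hk b, hβb])
  refine Function.bijective_iff_has_inverse.2 ⟨G, fun y => ?_, fun z => ?_⟩
  · induction y using TensorProduct.induction_on with
    | zero => simp
    | add a b ha hb => simp only [map_add, ha, hb]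
    | tmul s n =>
      rw [hK]
      show β (k (j s)) n = _
      rw [show j s = L (s ⊗ₜ[A] 1) by simp [L, jA], show k (L (s ⊗ₜ[A] 1)) = s ⊗ₜ[A] 1 from RingHom.congr_fun e2 _, hβ,
        one_smul]
  · induction z using TensorProduct.induction_on with
    | zero => simp
    | add a b ha hb => simp only [map_add, ha, hb]
    | tmul t n =>
      show K (β (k t) n) = _
      conv_rhs => rw [show t = L (k t) from (RingHom.congr_fun e1 t).symm]
      generalize k t = x
      induction x using TensorProduct.induction_on with
      | zero => simp [β]
      | add a b ha hb =>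
        rw [map_add L, TensorProduct.add_tmul, ← ha, ← hb, ← map_add]
        congr 1
        exact map_add (((LinearMap.toSpanSingleton B N n).restrictScalars A).lTensor S) a b
      | tmul s b =>
        rw [hβ, hK]
        simp only [L, jA, Algebra.TensorProduct.productMap_apply_tmul, AlgHom.coe_mk, IsScalarTower.coe_toAlgHom']
        rw [TensorProduct.tmul_smul, TensorProduct.smul_tmul', Algebra.smul_def, mul_comm]

end HensGlueLib
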