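import Groth.Agent.HensSchFFLib.Main
import Groth.Agent.HensGlueLib.Away
import Mathlib.LinearAlgebra.DirectSum.Finsupp

/-!
# Tensor products with the rings of sections and with the stalks
-/

set_option autoImplicit false
set_option maxHeartbeats 1000000
set_option linter.style.haveILetI false
set_option linter.unusedSectionVars false
set_option backward.isDefEq.respectTransparency false
set_option backward.isDefEq.respectTransparency.types false
universe u

open CategoryTheory TopologicalSpace Opposite AlgebraicGeometry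
open scoped TensorProduct

noncomputable section

namespace HensGlueLib

variable {A : Type u} [CommRing A] {X : LocallyRingedSpace.{u}} (π : X ⟶ HensSch.specLRS A)

/-- The map from the ring to the sections over an open subset. -/
def secA (U : Opens X) : A →+* (X.presheaf.obj (op U) : Type u) :=
  (X.presheaf.map (homOfLE (le_top : U ≤ (Opens.map π.base).obj ⊤)).op).hom.comp
    ((π.c.app (op ⊤)).hom.comp (Scheme.ΓSpecIso (CommRingCat.of A)).inv.hom)

theorem secA_res {U V : Opens X} (h : V ≤ U) (a : A) :
    (X.presheaf.map (homOfLE h).op).hom (secA π U a) = secA π V a := by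
  simp only [secA, RingHom.comp_apply]
  rw [← CommRingCat.comp_apply, ← X.presheaf.map_comp]
  rfl

/-- Sections over an open subset, as an algebra over the ring. -/
@[nolint unusedArguments]
def Sec (_π : X ⟶ HensSch.specLRS A) (U : Opens X) : Type u := X.presheaf.obj (op U)

instance (U : Opens X) : CommRing (Sec π U) := inferInstanceAs (CommRing (X.presheaf.obj (op U) : Type u))
instance (U : Opens X) : Algebra A (Sec π U) :=
  RingHom.toAlgebra (secA π U : A →+* Sec π U)

/-- The stalk, as an algebra over the ring. -/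
@[nolint unusedArguments]
def Stk (_π : X ⟶ HensSch.specLRS A) (x : X) : Type u := X.presheaf.stalk x

instance (x : X) : CommRing (Stk π x) := inferInstanceAs (CommRing (X.presheaf.stalk x : Type u))
instance (x : X) : Algebra A (Stk π x) := RingHom.toAlgebra (HensSchLib.secStalk π x : A →+* Stk π x)

/-- Restriction of sections. -/
def res {U V : Opens X} (h : V ≤ U) : Sec π U →ₐ[A] Sec π V :=
  { toRingHom := (X.presheaf.map (homOfLE h).op).hom, commutes' := secA_res π h }

theorem germ_secA {U : Opens X} (x : X) (hx : x ∈ U) (a : A) :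
    (X.presheaf.germ U x hx).hom (secA π U a) = HensSchLib.secStalk π x a := by
  refine (TopCat.Presheaf.germ_res_apply X.presheaf _ x hx _).trans
    (Eq.trans ?_ (HensSchLib.germ_secMap (π := π) ⊤ x trivial a))
  simp only [HensSch.secMap, RingHom.comp_apply]
  exact (TopCat.Presheaf.germ_res_apply X.presheaf _ x (show x ∈ (Opens.map π.base).obj ⊤ from trivial) _).symm

/-- Germs of sections. -/
def germA {U : Opens X} (x : X) (hx : x ∈ U) : Sec π U →ₐ[A] Stk π x :=
  { toRingHom := (X.presheaf.germ U x hx).hom, commutes' := germ_secA π x hx }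

theorem germA_res {U V : Opens X} (h : V ≤ U) (x : X) (hx : x ∈ V) (s : Sec π U) :
    germA π x hx (res π h s) = germA π x (h hx) s :=
  TopCat.Presheaf.germ_res_apply X.presheaf _ x hx s

theorem exists_germA_eq (x : X) (r : Stk π x) (U : Opens X) (hx : x ∈ U) :
    ∃ (V : Opens X) (hV : x ∈ V) (_ : V ≤ U) (s : Sec π V), germA π x hV s = r := by
  obtain ⟨V, hV, s, hs⟩ := X.presheaf.exists_germ_eq (x := x) r
  exact ⟨V ⊓ U, ⟨hV, hx⟩, inf_le_right, res π inf_le_left (show Sec π V from s), (germA_res π inf_le_left x ⟨hV, hx⟩ _).trans hs⟩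

variable (M : Type u) [AddCommGroup M] [Module A M]

/-- Restriction on tensor products. -/
abbrev resT {U V : Opens X} (h : V ≤ U) : Sec π U ⊗[A] M →ₗ[A] Sec π V ⊗[A] M := (res π h).toLinearMap.rTensor M

/-- Germs on tensor products. -/
abbrev germT {U : Opens X} (x : X) (hx : x ∈ U) : Sec π U ⊗[A] M →ₗ[A] Stk π x ⊗[A] M :=
  (germA π x hx).toLinearMap.rTensor M

theorem germT_resT {U V : Opens X} (h : V ≤ U) (x : X) (hx : x ∈ V) (t : Sec π U ⊗[A] M) :
    germT π M x hx (resT π M h t) = germT π M x (h hx) t := by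
  rw [← LinearMap.rTensor_comp_apply]
  exact LinearMap.congr_fun (congrArg (LinearMap.rTensor M)
    (show (germA π x hx).toLinearMap ∘ₗ (res π h).toLinearMap = (germA π x (h hx)).toLinearMap from
      LinearMap.ext (germA_res π h x hx))) t

theorem resT_resT {U V W : Opens X} (h : V ≤ U) (h' : W ≤ V) (t : Sec π U ⊗[A] M) :
    resT π M h' (resT π M h t) = resT π M (h'.trans h) t := by
  rw [← LinearMap.rTensor_comp_apply]
  refine LinearMap.congr_fun (congrArg (LinearMap.rTensor M)
    (show (res π h').toLinearMap ∘ₗ (res π h).toLinearMap = (res π (h'.trans h)).toLinearMap from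
      LinearMap.ext fun s => ?_)) t
  show (X.presheaf.map _).hom ((X.presheaf.map _).hom s) = (X.presheaf.map _).hom s
  rw [← CommRingCat.comp_apply, ← X.presheaf.map_comp]
  rfl

theorem exists_germT_eq (x : X) (w : Stk π x ⊗[A] M) (U : Opens X) (hx : x ∈ U) :
    ∃ (V : Opens X) (hV : x ∈ V) (_ : V ≤ U) (t : Sec π V ⊗[A] M), germT π M x hV t = w := by
  induction w using TensorProduct.induction_on with
  | zero => exact ⟨U, hx, le_rfl, 0, map_zero _⟩
  | tmul r m =>
    obtain ⟨V, hV, hle, s, rfl⟩ := exists_germA_eq π x r U hx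
    exact ⟨V, hV, hle, s ⊗ₜ m, rfl⟩
  | add a b ha hb =>
    obtain ⟨V, hV, hle, t, rfl⟩ := ha
    obtain ⟨W, hW, -, t', rfl⟩ := hb
    refine ⟨V ⊓ W, ⟨hV, hW⟩, inf_le_left.trans hle, resT π M inf_le_left t + resT π M inf_le_right t', ?_⟩
    rw [map_add, germT_resT π M inf_le_left x ⟨hV, hW⟩, germT_resT π M inf_le_right x ⟨hV, hW⟩]

omit [Module A M] in
theorem exists_resT_eq_zero_free (K : Type u) {U : Opens X} (x : X) (hx : x ∈ U) (t : Sec π U ⊗[A] (K →₀ A))
    (h : germT π (K →₀ A) x hx t = 0) : ∃ (V : Opens X) (_ : x ∈ V) (hV : V ≤ U), resT π (K →₀ A) hV t = 0 := by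
  classical
  have key : ∀ {P Q : Type u} [CommRing P] [Algebra A P] [CommRing Q] [Algebra A Q] (r : P →ₐ[A] Q)
      (t : P ⊗[A] (K →₀ A)) (k : K),
      TensorProduct.finsuppScalarRight A A Q K (r.toLinearMap.rTensor (K →₀ A) t) k =
        r (TensorProduct.finsuppScalarRight A A P K t k) := fun r t k => by
    induction t using TensorProduct.induction_on with
    | zero => simp
    | add a b ha hb => simp [map_add, ha, hb]
    | tmul p c => simp [TensorProduct.finsuppScalarRight_apply_tmul_apply]
  let c := TensorProduct.finsuppScalarRight A A (Sec π U) K t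
  have hc : ∀ k, ∃ (V : Opens X) (_ : x ∈ V) (hV : V ≤ U), res π hV (c k) = 0 := fun k => by
    have e : germA π x hx (c k) = 0 := by rw [← key, h]; simp
    obtain ⟨V, hV, i₁, i₂, e'⟩ := X.presheaf.germ_eq x hx hx (c k) (0 : Sec π U) (e.trans (map_zero _).symm)
    exact ⟨V, hV, i₁.le, e'.trans (map_zero _)⟩
  choose V hxV hVU hV using hc
  refine ⟨U ⊓ c.support.inf V, ⟨hx, Finset.inf_induction (p := fun W : Opens X => x ∈ W) trivial
    (fun _ h₁ _ h₂ => ⟨h₁, h₂⟩) (fun k _ => hxV k)⟩, inf_le_left, ?_⟩
  refine (TensorProduct.finsuppScalarRight A A _ K).injective (Finsupp.ext fun k => ?_)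
  rw [key, map_zero, Finsupp.zero_apply]
  by_cases hk : k ∈ c.support
  · have hle : U ⊓ c.support.inf V ≤ V k := inf_le_right.trans (Finset.inf_le hk)
    have := congrArg (res π hle) (hV k)
    rw [map_zero] at this
    refine Eq.trans ?_ this
    show (X.presheaf.map _).hom _ = (X.presheaf.map _).hom ((X.presheaf.map _).hom _)
    rw [← CommRingCat.comp_apply, ← X.presheaf.map_comp]
    rfl
  · rw [show TensorProduct.finsuppScalarRight A A (Sec π U) K t k = 0 from Finsupp.notMem_support_iff.1 hk, map_zero]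

/-- Tensors vanishing at a point vanish nearby. -/
theorem exists_resT_eq_zero {U : Opens X} (x : X) (hx : x ∈ U) (t : Sec π U ⊗[A] M) (h : germT π M x hx t = 0) :
    ∃ (V : Opens X) (_ : x ∈ V) (hV : V ≤ U), resT π M hV t = 0 := by
  let g : (M →₀ A) →ₗ[A] M := Finsupp.linearCombination A id
  have hg : Function.Surjective g := fun m => ⟨Finsupp.single m 1, by simp [g]⟩
  let f : (LinearMap.ker g →₀ A) →ₗ[A] (M →₀ A) := Finsupp.linearCombination A Subtype.val
  have hex : Function.Exact f g := by
    rw [LinearMap.exact_iff, Finsupp.range_linearCombination, Subtype.range_coe_subtype]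
    exact (Submodule.span_eq _).symm
  have hnat : ∀ {P Q : Type u} [CommRing P] [Algebra A P] [CommRing Q] [Algebra A Q] (r : P →ₐ[A] Q) {M₁ M₂ : Type u}
      [AddCommGroup M₁] [Module A M₁] [AddCommGroup M₂] [Module A M₂] (l : M₁ →ₗ[A] M₂) (y : P ⊗[A] M₁),
      r.toLinearMap.rTensor M₂ (l.lTensor P y) = l.lTensor Q (r.toLinearMap.rTensor M₁ y) := fun r _ _ _ _ _ _ l y => by
    induction y using TensorProduct.induction_on with
    | zero => simp
    | add a b ha hb => simp only [map_add, ha, hb]
    | tmul p e => simp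
  obtain ⟨v, rfl⟩ := LinearMap.lTensor_surjective (Sec π U) hg t
  rw [germT, hnat] at h
  obtain ⟨w, hw⟩ := (lTensor_exact (Stk π x) hex hg _).1 h
  obtain ⟨V, hV, hle, w', rfl⟩ := exists_germT_eq π (LinearMap.ker g →₀ A) x w U hx
  rw [← hnat] at hw
  obtain ⟨W, hW, hWV, e⟩ := exists_resT_eq_zero_free π M x hV (resT π (M →₀ A) hle v - f.lTensor (Sec π V) w') (by
    rw [map_sub, germT_resT π (M →₀ A) hle x hV]
    exact sub_eq_zero.2 hw.symm)
  refine ⟨W, hW, hWV.trans hle, ?_⟩
  rw [map_sub, sub_eq_zero, resT_resT] at e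
  rw [resT, hnat]
  refine (congrArg (g.lTensor (Sec π W)) e).trans ?_
  rw [resT, hnat]
  exact (lTensor_exact (Sec π W) hex hg _).2 ⟨_, rfl⟩

end HensGlueLib
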