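import Groth.Agent.HensGlueLib.Germ

/-!
# Henselizations of localizations glue along the closed subset of a henselian pair
-/

set_option autoImplicit false
set_option maxHeartbeats 1000000
set_option linter.style.haveILetI false
set_option linter.unusedSectionVars false
set_option backward.isDefEq.respectTransparency false
set_option backward.isDefEq.respectTransparency.types false
universe u

open CategoryTheory CategoryTheory.Limits AlgebraicGeometry Opposite EtDescentLib
open scoped TensorProduct

noncomputable section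

namespace HensGlueLib

variable {A : Type u} [CommRing A] (I : Ideal A)

/-- Modulo the ideal, elements are fractions with denominators powers of `g`. -/
def Nb (g : A) (B : Type u) [CommRing B] [Algebra A B] : Prop :=
  ∀ x : B, ∃ (a : A) (n : ℕ), algebraMap A B g ^ n * x - algebraMap A B a ∈ I.map (algebraMap A B)

theorem nb_self (g : A) : Nb I g A := fun x => ⟨x, 0, by simp⟩

variable {I}

theorem nb_tensor {g h : A} {B C : Type u} [CommRing B] [Algebra A B] [CommRing C] [Algebra A C]
    (hB : Nb I g B) (hC : Nb I h C) : Nb I (g * h) (B ⊗[A] C) := by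
  have hmemL : ∀ x ∈ I.map (algebraMap A B), x ⊗ₜ[A] (1 : C) ∈ I.map (algebraMap A (B ⊗[A] C)) := fun x hx => by
    have := Ideal.mem_map_of_mem (Algebra.TensorProduct.includeLeft (R := A) (S := A) (A := B) (B := C) : B →+* B ⊗[A] C) hx
    rw [Ideal.map_map, AlgHom.comp_algebraMap] at this
    exact this
  have hmemR : ∀ x ∈ I.map (algebraMap A C), (1 : B) ⊗ₜ[A] x ∈ I.map (algebraMap A (B ⊗[A] C)) := fun x hx => by
    have := Ideal.mem_map_of_mem (Algebra.TensorProduct.includeRight (R := A) (A := B) (B := C) : C →+* B ⊗[A] C) hx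
    rw [Ideal.map_map, AlgHom.comp_algebraMap] at this
    exact this
  intro x
  induction x using TensorProduct.induction_on with
  | zero => exact ⟨0, 0, by simp⟩
  | add x y hx hy =>
    obtain ⟨a, n, ha⟩ := hx
    obtain ⟨a', m, ha'⟩ := hy
    refine ⟨(g * h) ^ m * a + (g * h) ^ n * a', n + m, ?_⟩
    convert add_mem (Ideal.mul_mem_left _ (algebraMap A (B ⊗[A] C) (g * h) ^ m) ha)
      (Ideal.mul_mem_left _ (algebraMap A (B ⊗[A] C) (g * h) ^ n) ha') using 1
    simp only [map_add, map_mul, map_pow]
    ring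
  | tmul b c =>
    obtain ⟨a, n, ha⟩ := hB b
    obtain ⟨a', m, ha'⟩ := hC c
    refine ⟨g ^ m * h ^ n * a * a', n + m, ?_⟩
    have h1 := Ideal.mul_mem_left _ ((1 : B) ⊗ₜ[A] (algebraMap A C h ^ m * c)) (hmemL _ ha)
    have h2 := Ideal.mul_mem_left _ ((algebraMap A B a) ⊗ₜ[A] (1 : C)) (hmemR _ ha')
    have h12 := Ideal.mul_mem_left _ (algebraMap A (B ⊗[A] C) (g ^ m * h ^ n)) (add_mem h1 h2)
    have eb : b ⊗ₜ[A] c = (b ⊗ₜ[A] (1 : C)) * ((1 : B) ⊗ₜ[A] c) := by simp
    have el : ∀ r : A, (algebraMap A B r) ⊗ₜ[A] (1 : C) = algebraMap A (B ⊗[A] C) r := fun r =>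
      (Algebra.TensorProduct.includeLeft (R := A) (S := A) (A := B) (B := C)).commutes r
    have er : ∀ r : A, (1 : B) ⊗ₜ[A] algebraMap A C r = algebraMap A (B ⊗[A] C) r := fun r =>
      (Algebra.TensorProduct.includeRight (R := A) (A := B) (B := C)).commutes r
    have sl : ∀ x y : B, (x - y) ⊗ₜ[A] (1 : C) = x ⊗ₜ[A] 1 - y ⊗ₜ[A] 1 := fun x y => TensorProduct.sub_tmul x y 1
    have sr : ∀ x y : C, (1 : B) ⊗ₜ[A] (x - y) = 1 ⊗ₜ[A] x - 1 ⊗ₜ[A] y := fun x y => TensorProduct.tmul_sub 1 x y
    have ml : ∀ x y : B, (x * y) ⊗ₜ[A] (1 : C) = (x ⊗ₜ[A] 1) * (y ⊗ₜ[A] 1) := fun x y => by simp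
    have mr : ∀ x y : C, (1 : B) ⊗ₜ[A] (x * y) = (1 ⊗ₜ[A] x) * (1 ⊗ₜ[A] y) := fun x y => by simp
    rw [sl, sr, ml, mr, ← map_pow, ← map_pow, el, el, er, er] at h12
    convert h12 using 1
    rw [eb]
    simp only [map_mul, map_pow]
    ring

/-- Neighbourhoods of a localized pair are fractional modulo the ideal. -/
theorem nb_of_nbhd (g : A) {U : Type u} [CommRing U] [Algebra (Localization.Away g) U] [Algebra A U]
    [IsScalarTower A (Localization.Away g) U]
    (hb : Function.Surjective (Ideal.quotientMap ((I.map (algebraMap A (Localization.Away g))).map (algebraMap (Localization.Away g) U))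
      (algebraMap (Localization.Away g) U) Ideal.le_comap_map)) : Nb I g U := by
  intro x
  obtain ⟨r, hr⟩ := PairHensLib.exists_sub_algebraMap_mem hb x
  obtain ⟨n, a, ha⟩ := IsLocalization.Away.surj g r
  refine ⟨a, n, ?_⟩
  rw [Ideal.map_map, ← IsScalarTower.algebraMap_eq] at hr
  have e : algebraMap A U a = algebraMap A U g ^ n * algebraMap (Localization.Away g) U r := by
    rw [IsScalarTower.algebraMap_apply A (Localization.Away g) U a, ← ha, map_mul, map_pow,
      ← IsScalarTower.algebraMap_apply, mul_comm]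
  rw [e, ← mul_sub]
  exact Ideal.mul_mem_left _ _ hr

/-- There is at most one prime over each prime in the range. -/
theorem Nb.eq_of_comap {g : A} {B : Type u} [CommRing B] [Algebra A B] (hB : Nb I g B) {q q' : PrimeSpectrum B}
    (h : q.asIdeal.comap (algebraMap A B) = q'.asIdeal.comap (algebraMap A B))
    (hI : I ≤ q.asIdeal.comap (algebraMap A B)) (hg : g ∉ q.asIdeal.comap (algebraMap A B)) : q = q' := by
  have key : ∀ r r' : PrimeSpectrum B, r.asIdeal.comap (algebraMap A B) = r'.asIdeal.comap (algebraMap A B) →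
      I ≤ r.asIdeal.comap (algebraMap A B) → g ∉ r.asIdeal.comap (algebraMap A B) → r.asIdeal ≤ r'.asIdeal := by
    intro r r' hrr hIr hgr x hx
    obtain ⟨a, n, ha⟩ := hB x
    have har : a ∈ r.asIdeal.comap (algebraMap A B) := by
      show algebraMap A B a ∈ r.asIdeal
      have := sub_mem (Ideal.mul_mem_left _ (algebraMap A B g ^ n) hx) (Ideal.map_le_iff_le_comap.2 hIr ha)
      rwa [sub_sub_cancel] at this
    rw [hrr] at har hIr
    have h1 := add_mem (Ideal.map_le_iff_le_comap.2 hIr ha) (show algebraMap A B a ∈ r'.asIdeal from har)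
    rw [sub_add_cancel] at h1
    exact (r'.isPrime.mem_or_mem h1).resolve_left fun h2 => hgr (hrr ▸ r'.isPrime.mem_of_pow_mem n h2)
  exact PrimeSpectrum.ext (le_antisymm (key q q' h hI hg) (key q' q h.symm (h ▸ hI) (h ▸ hg)))

/-- A neighbourhood of a localized pair has a prime over every prime in the range. -/
theorem exists_prime (g : A) {U : Type u} [CommRing U] [Algebra (Localization.Away g) U] [Algebra A U]
    [IsScalarTower A (Localization.Away g) U]
    (hb : Function.Bijective (Ideal.quotientMap ((I.map (algebraMap A (Localization.Away g))).map (algebraMap (Localization.Away g) U))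
      (algebraMap (Localization.Away g) U) Ideal.le_comap_map))
    (p : PrimeSpectrum A) (hI : I ≤ p.asIdeal) (hg : g ∉ p.asIdeal) :
    ∃ w : PrimeSpectrum U, w.asIdeal.comap (algebraMap A U) = p.asIdeal := by
  let κ := FractionRing (A ⧸ p.asIdeal)
  let f₀ : A →+* κ := (algebraMap (A ⧸ p.asIdeal) κ).comp (Ideal.Quotient.mk p.asIdeal)
  have hker : ∀ a, f₀ a = 0 ↔ a ∈ p.asIdeal := fun a => by
    show algebraMap (A ⧸ p.asIdeal) κ (Ideal.Quotient.mk p.asIdeal a) = 0 ↔ _
    rw [IsFractionRing.to_map_eq_zero_iff, Ideal.Quotient.eq_zero_iff_mem]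
  have hu : IsUnit (f₀ g) := isUnit_iff_ne_zero.2 fun h => hg ((hker g).1 h)
  let f₁ : Localization.Away g →+* κ := IsLocalization.Away.lift g hu
  have hf₁ : ∀ a, f₁ (algebraMap A _ a) = f₀ a := IsLocalization.Away.lift_eq g hu
  let f₂ : Localization.Away g ⧸ I.map (algebraMap A (Localization.Away g)) →+* κ :=
    Ideal.Quotient.lift _ f₁ fun x hx => by
      have h1 : I.map (algebraMap A (Localization.Away g)) ≤ RingHom.ker f₁ := by
        rw [Ideal.map_le_iff_le_comap]
        exact fun i hi => (hf₁ i).trans ((hker i).2 (hI hi))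
      exact h1 hx
  let e := RingEquiv.ofBijective _ hb
  let χ : U →+* κ := (f₂.comp e.symm.toRingHom).comp (Ideal.Quotient.mk _)
  have hχ : ∀ a, χ (algebraMap A U a) = f₀ a := fun a => by
    have : e.symm (Ideal.Quotient.mk _ (algebraMap A U a)) = Ideal.Quotient.mk _ (algebraMap A (Localization.Away g) a) := by
      refine e.symm_apply_eq.2 ?_
      rw [IsScalarTower.algebraMap_apply A (Localization.Away g) U]
      rfl
    show f₂ (e.symm (Ideal.Quotient.mk _ (algebraMap A U a))) = _
    rw [this]
    exact hf₁ a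
  refine ⟨⟨RingHom.ker χ, RingHom.ker_isPrime χ⟩, ?_⟩
  ext a
  show χ (algebraMap A U a) = 0 ↔ _
  rw [hχ, hker]

/-- Elements equal in the henselization of a localized pair have equal germs along it. -/
theorem germ_eq (g : A) {B : Type u} [CommRing B] [Algebra A B] [Algebra.Etale A B] (hB : Nb I g B)
    {H' : Type u} [CommRing H'] [Algebra (Localization.Away g) H'] [Algebra A H']
    [IsScalarTower A (Localization.Away g) H']
    (hH' : Hens2.IsPairHenselization (Localization.Away g) (I.map (algebraMap A (Localization.Away g))) H')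
    (φ : B →ₐ[A] H') {y y' : B} (h : φ y = φ y') {G : Over (Spec (CommRingCat.of A))} (c : G ⟶ obj A B)
    (hG : IsGeo G.left) (q : PrimeSpectrum B) (hq : ∀ p, c.left p = q)
    (hI : I ≤ q.asIdeal.comap (algebraMap A B)) (hg : g ∉ q.asIdeal.comap (algebraMap A B)) :
    (P A).map c.op (sec B y) = (P A).map c.op (sec B y') := by
  let φ' : Localization.Away g ⊗[A] B →ₐ[Localization.Away g] H' :=
    Algebra.TensorProduct.lift (Algebra.ofId (Localization.Away g) H') φ fun _ _ => .all _ _
  obtain ⟨U, _, _, _, ι, ξ', hbU, hι⟩ := PairHensLib.exists_shrink hH' φ'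
  have hs : ξ' (ι (1 ⊗ₜ (y - y'))) = 0 := by
    rw [← AlgHom.comp_apply, hι]
    simp [φ', h]
  obtain ⟨U', _, _, _, hbU', ψ', hψ'⟩ := PairHensLib.exists_nbhd_kernel hH' hbU ξ' hs
  letI : Algebra A U' := ((algebraMap (Localization.Away g) U').comp (algebraMap A (Localization.Away g))).toAlgebra
  haveI : IsScalarTower A (Localization.Away g) U' := IsScalarTower.of_algebraMap_eq' rfl
  haveI : Algebra.Etale A (Localization.Away g) := Algebra.Etale.of_isLocalizationAway g
  haveI : Algebra.Etale A U' := Algebra.Etale.comp A (Localization.Away g) U'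
  let ψ : B →ₐ[A] U' := ((ψ'.comp ι).restrictScalars A).comp Algebra.TensorProduct.includeRight
  have hψy : ψ y = ψ y' := by
    rw [← sub_eq_zero, ← map_sub]
    exact hψ'
  obtain ⟨w, hw⟩ := exists_prime g hbU' ⟨_, Ideal.comap_isPrime (algebraMap A B) q.asIdeal⟩ hI hg
  refine germ_eq_of_ker ψ hψy c hG w fun p => (hq p).trans (hB.eq_of_comap ?_ hI hg)
  refine hw.symm.trans ?_
  show _ = (w.asIdeal.comap ψ.toRingHom).comap (algebraMap A B)
  rw [Ideal.comap_comap]
  congr 1
  exact ψ.comp_algebraMap.symm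

/-- The trace of a localized pair on the closed subset. -/
abbrev R (I : Ideal A) (g : A) : Type u := Localization.Away (Ideal.Quotient.mk I g)

theorem algebraMap_R_mem (g : A) {a : A} (ha : a ∈ I) : algebraMap A (R I g) a = 0 := by
  rw [IsScalarTower.algebraMap_apply A (A ⧸ I) (R I g), Ideal.Quotient.algebraMap_eq,
    Ideal.Quotient.eq_zero_iff_mem.2 ha, map_zero]

theorem isUnit_algebraMap_R (g : A) : IsUnit (algebraMap A (R I g) g) := by
  rw [IsScalarTower.algebraMap_apply A (A ⧸ I) (R I g), Ideal.Quotient.algebraMap_eq]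
  exact IsLocalization.Away.algebraMap_isUnit _

theorem exists_pi (g : A) {U : Type u} [CommRing U] [Algebra (Localization.Away g) U] [Algebra A U]
    [IsScalarTower A (Localization.Away g) U]
    (hb : Function.Bijective (Ideal.quotientMap ((I.map (algebraMap A (Localization.Away g))).map (algebraMap (Localization.Away g) U))
      (algebraMap (Localization.Away g) U) Ideal.le_comap_map)) : Nonempty (U →ₐ[A] R I g) := by
  let f₁ : Localization.Away g →+* R I g := IsLocalization.Away.lift g (isUnit_algebraMap_R g)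
  have hf₁ : ∀ a, f₁ (algebraMap A _ a) = algebraMap A (R I g) a := IsLocalization.Away.lift_eq g (isUnit_algebraMap_R g)
  let f₂ : Localization.Away g ⧸ I.map (algebraMap A (Localization.Away g)) →+* R I g :=
    Ideal.Quotient.lift _ f₁ fun x hx => by
      have h1 : I.map (algebraMap A (Localization.Away g)) ≤ RingHom.ker f₁ := by
        rw [Ideal.map_le_iff_le_comap]
        exact fun i hi => (hf₁ i).trans (algebraMap_R_mem g hi)
      exact h1 hx
  let e := RingEquiv.ofBijective _ hb
  refine ⟨{ toRingHom := (f₂.comp e.symm.toRingHom).comp (Ideal.Quotient.mk _), commutes' := fun a => ?_ }⟩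
  have : e.symm (Ideal.Quotient.mk _ (algebraMap A U a)) = Ideal.Quotient.mk _ (algebraMap A (Localization.Away g) a) := by
    refine e.symm_apply_eq.2 ?_
    rw [IsScalarTower.algebraMap_apply A (Localization.Away g) U]
    rfl
  show f₂ (e.symm (Ideal.Quotient.mk _ (algebraMap A U a))) = _
  rw [this]
  exact hf₁ a

theorem objMap_comp {B C D : Type u} [CommRing B] [Algebra A B] [CommRing C] [Algebra A C] [CommRing D] [Algebra A D]
    (φ : B →ₐ[A] C) (ψ : C →ₐ[A] D) : objMap ψ ≫ objMap φ = objMap (ψ.comp φ) := by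
  refine Over.OverMorphism.ext ?_
  show Spec.map _ ≫ Spec.map _ = Spec.map _
  rw [← Spec.map_comp]
  rfl

/-- The image of a point of `obj A B` in the base. -/
theorem comap_left {B : Type u} [CommRing B] [Algebra A B] {G : Over (Spec (CommRingCat.of A))} (c : G ⟶ obj A B)
    (p : G.left) : (c.left p : PrimeSpectrum B).asIdeal.comap (algebraMap A B) = (G.hom p : PrimeSpectrum A).asIdeal := by
  rw [← Over.w c]
  rfl

theorem mem_of_point {g : A} {G : Over (Spec (CommRingCat.of A))} (a : G ⟶ obj A (R I g)) (p : G.left) :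
    I ≤ (G.hom p : PrimeSpectrum A).asIdeal ∧ g ∉ (G.hom p : PrimeSpectrum A).asIdeal := by
  rw [← comap_left a p]
  refine ⟨fun i hi => ?_, fun h => ?_⟩
  · show algebraMap A (R I g) i ∈ (a.left p : PrimeSpectrum (R I g)).asIdeal
    rw [algebraMap_R_mem g hi]
    exact zero_mem _
  · exact (a.left p : PrimeSpectrum (R I g)).isPrime.ne_top (Ideal.eq_top_of_isUnit_mem _ h (isUnit_algebraMap_R g))

/-- Sections on localized neighbourhoods have equal germs on overlaps. -/
theorem germ_overlap {g g' : A} {B B' : Type u} [CommRing B] [Algebra A B] [Algebra.Etale A B] [CommRing B']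
    [Algebra A B'] [Algebra.Etale A B'] (hB : Nb I g B) (hB' : Nb I g' B') (π : B →ₐ[A] R I g) (π' : B' →ₐ[A] R I g')
    {K : Type u} [CommRing K] [Algebra (Localization.Away (g * g')) K] [Algebra A K]
    [IsScalarTower A (Localization.Away (g * g')) K]
    (hK : Hens2.IsPairHenselization (Localization.Away (g * g')) (I.map (algebraMap A (Localization.Away (g * g')))) K)
    (φ : B →ₐ[A] K) (φ' : B' →ₐ[A] K) {b : B} {b' : B'} (h : φ b = φ' b') {G : Over (Spec (CommRingCat.of A))}
    (a : G ⟶ obj A (R I g)) (a' : G ⟶ obj A (R I g')) (hG : IsGeo G.left) :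
    (P A).map a.op ((P A).map (objMap π).op (sec B b)) = (P A).map a'.op ((P A).map (objMap π').op (sec B' b')) := by
  haveI : Algebra.Etale A (B ⊗[A] B') := Algebra.Etale.comp A B (B ⊗[A] B')
  let u := a ≫ objMap π
  let u' := a' ≫ objMap π'
  let c : G ⟶ obj A (B ⊗[A] B') := Over.homMk
    (pullback.lift u.left u'.left ((Over.w u).trans (Over.w u').symm) ≫ (pullbackSpecIso A B B').hom) (by
      refine Eq.trans ?_ (Over.w u)
      show (_ ≫ (pullbackSpecIso A B B').hom) ≫ Spec.map _ = _
      rw [Category.assoc]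
      show _ ≫ (pullbackSpecIso A B B').hom ≫ Spec.map (CommRingCat.ofHom (algebraMap A (B ⊗[A] B'))) = _
      rw [Algebra.TensorProduct.algebraMap_def, CommRingCat.ofHom_comp, Spec.map_comp]
      erw [pullbackSpecIso_hom_fst_assoc, pullback.lift_fst_assoc]
      rfl)
  have hcl : c ≫ objMap Algebra.TensorProduct.includeLeft = u := Over.OverMorphism.ext (by
    show (_ ≫ (pullbackSpecIso A B B').hom) ≫ _ = _
    rw [Category.assoc]
    erw [pullbackSpecIso_hom_fst, pullback.lift_fst])
  have hcr : c ≫ objMap Algebra.TensorProduct.includeRight = u' := Over.OverMorphism.ext (by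
    show (_ ≫ (pullbackSpecIso A B B').hom) ≫ _ = _
    rw [Category.assoc]
    erw [pullbackSpecIso_hom_snd, pullback.lift_snd])
  obtain ⟨p⟩ := hG.nonempty
  rw [← map_comp_apply', ← map_comp_apply']
  show (P A).map u.op (sec B b) = (P A).map u'.op (sec B' b')
  rw [← hcl, ← hcr, map_comp_apply', map_comp_apply', sec_map, sec_map]
  refine germ_eq (g * g') (nb_tensor hB hB') hK (Algebra.TensorProduct.productMap φ φ') ?_ c hG (c.left p)
    (fun p' => congrArg c.left (hG.subsingleton p' p)) ?_ ?_
  · simp [h]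
  · rw [comap_left c p]; exact (mem_of_point a p).1
  · rw [comap_left c p]
    exact fun hm => ((G.hom p : PrimeSpectrum A).isPrime.mem_or_mem hm).elim (mem_of_point a p).2 (mem_of_point a' p).2

variable [HenselianRing A I]

/-- Germ sections on the spectrum are those on the closed subset. -/
theorem bijective_restrict :
    Function.Bijective ((P A).map (objMap (A := A) (Algebra.ofId A (A ⧸ I))).op) := by
  let i : Spec (CommRingCat.of (A ⧸ I)) ⟶ Spec (CommRingCat.of A) := (obj A (A ⧸ I)).hom
  haveI : IsClosedImmersion i := IsClosedImmersion.spec_of_surjective _ Ideal.Quotient.mk_surjective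
  have h := EtH0Lib.bijective_map_of_bijOn hasGerms i
    (EtH0Lib.bijOn_preimage_of_proper I (𝟙 _) i (Set.preimage_id).symm)
  let u : obj A A ⟶ Over.mk (𝟙 (Spec (CommRingCat.of A))) := Over.homMk (obj A A).hom
  haveI : IsIso u.left := by
    show IsIso (Spec.map (CommRingCat.ofHom (algebraMap A A)))
    exact inferInstanceAs (IsIso (Spec.map (𝟙 (CommRingCat.of A))))
  haveI : IsIso ((Over.forget _).map u) := ‹IsIso u.left›
  haveI : IsIso u := isIso_of_reflects_iso u (Over.forget _)
  have hu : Function.Bijective ((P A).map u.op) := ConcreteCategory.bijective_of_isIso _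
  have e : (Over.homMk i : Over.mk i ⟶ Over.mk (𝟙 _)) = objMap (A := A) (Algebra.ofId A (A ⧸ I)) ≫ u := by
    refine Over.OverMorphism.ext ?_
    show i = _ ≫ _
    exact (Over.w (objMap (A := A) (Algebra.ofId A (A ⧸ I)))).symm
  rw [e, op_comp, Functor.map_comp] at h
  exact (Function.Bijective.of_comp_iff _ hu).1 h

/-- Injectivity half of the sheaf condition. -/
theorem eq_of_forall {ι : Type u} (g : ι → A) (hcov : I ⊔ Ideal.span (Set.range g) = ⊤)
    (Hi : ι → Type u) [∀ i, CommRing (Hi i)] [∀ i, Algebra (Localization.Away (g i)) (Hi i)]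
    [∀ i, Algebra A (Hi i)] [∀ i, IsScalarTower A (Localization.Away (g i)) (Hi i)]
    (hHi : ∀ i, Hens2.IsPairHenselization (Localization.Away (g i))
      (I.map (algebraMap A (Localization.Away (g i)))) (Hi i))
    {x y : A} (h : ∀ i, algebraMap A (Hi i) x = algebraMap A (Hi i) y) : x = y := by
  refine (sec_bijective (A := A) A).1 ((bijective_restrict (I := I)).1 (hasGerms.ext fun G a hG => ?_))
  obtain ⟨p⟩ := hG.nonempty
  let c := a ≫ objMap (A := A) (Algebra.ofId A (A ⧸ I))
  have hp : I ≤ (G.hom p : PrimeSpectrum A).asIdeal := by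
    intro i hi
    rw [← comap_left a p]
    show algebraMap A (A ⧸ I) i ∈ (a.left p : PrimeSpectrum (A ⧸ I)).asIdeal
    rw [Ideal.Quotient.algebraMap_eq, Ideal.Quotient.eq_zero_iff_mem.2 hi]
    exact zero_mem _
  obtain ⟨i, hi⟩ : ∃ i, g i ∉ (G.hom p : PrimeSpectrum A).asIdeal := by
    by_contra hne
    simp only [not_exists, not_not] at hne
    exact (G.hom p : PrimeSpectrum A).isPrime.ne_top (top_le_iff.1 (hcov ▸ sup_le hp
      (Ideal.span_le.2 (Set.range_subset_iff.2 hne))))
  rw [← map_comp_apply', ← map_comp_apply']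
  refine germ_eq (g i) (nb_self I _) (hHi i) (Algebra.ofId A (Hi i)) (h i) c hG (c.left p)
    (fun p' => congrArg c.left (hG.subsingleton p' p)) ?_ ?_
  · rw [comap_left c p]; exact hp
  · rw [comap_left c p]; exact hi

/-- Gluing half of the sheaf condition. -/
theorem exists_of_compatible {ι : Type u} (g : ι → A) (hcov : I ⊔ Ideal.span (Set.range g) = ⊤)
    (Hi : ι → Type u) [∀ i, CommRing (Hi i)] [∀ i, Algebra (Localization.Away (g i)) (Hi i)]
    [∀ i, Algebra A (Hi i)] [∀ i, IsScalarTower A (Localization.Away (g i)) (Hi i)]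
    (hHi : ∀ i, Hens2.IsPairHenselization (Localization.Away (g i))
      (I.map (algebraMap A (Localization.Away (g i)))) (Hi i))
    (Hij : ι → ι → Type u) [∀ i j, CommRing (Hij i j)]
    [∀ i j, Algebra (Localization.Away (g i * g j)) (Hij i j)]
    [∀ i j, Algebra A (Hij i j)] [∀ i j, IsScalarTower A (Localization.Away (g i * g j)) (Hij i j)]
    (hHij : ∀ i j, Hens2.IsPairHenselization (Localization.Away (g i * g j))
      (I.map (algebraMap A (Localization.Away (g i * g j)))) (Hij i j))
    (σ : ∀ i j, Hi i →ₐ[A] Hij i j) (τ : ∀ i j, Hi j →ₐ[A] Hij i j)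
    (s : ∀ i, Hi i) (hs : ∀ i j, σ i j (s i) = τ i j (s j)) : ∃ x : A, ∀ i, algebraMap A (Hi i) x = s i := by
  classical
  choose B iB iB' iB'' ξ hb hξ using fun i => PairHensLib.exists_nbhd (hHi i) {s i}
  choose b hb0 using fun i => hξ i _ (Finset.mem_singleton_self _)
  have hb' : ∀ i, ξ i (b i) = s i := hb0
  letI : ∀ i, Algebra A (B i) := fun i =>
    ((algebraMap (Localization.Away (g i)) (B i)).comp (algebraMap A (Localization.Away (g i)))).toAlgebra
  haveI : ∀ i, IsScalarTower A (Localization.Away (g i)) (B i) := fun i => IsScalarTower.of_algebraMap_eq' rfl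
  haveI : ∀ i, Algebra.Etale A (B i) := fun i =>
    haveI : Algebra.Etale A (Localization.Away (g i)) := Algebra.Etale.of_isLocalizationAway (g i)
    Algebra.Etale.comp A (Localization.Away (g i)) (B i)
  have hnb : ∀ i, Nb I (g i) (B i) := fun i => nb_of_nbhd (g i) (hb i).2
  let π : ∀ i, B i →ₐ[A] R I (g i) := fun i => (exists_pi (g i) (hb i)).some
  let hm : ∀ i, obj A (R I (g i)) ⟶ obj A (A ⧸ I) := fun i => objMap (IsScalarTower.toAlgHom A (A ⧸ I) (R I (g i)))
  have het : ∀ i, Etale (hm i).left := fun i => by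
    haveI : IsOpenImmersion (Spec.map (CommRingCat.ofHom (algebraMap (A ⧸ I) (R I (g i))))) :=
      IsOpenImmersion.of_isLocalization (Ideal.Quotient.mk I (g i))
    exact (inferInstance : Etale (Spec.map (CommRingCat.ofHom (algebraMap (A ⧸ I) (R I (g i))))))
  have hsurj : ∀ z : (obj A (A ⧸ I)).left, ∃ i w, (hm i).left w = z := fun z => by
    obtain ⟨i, hi⟩ : ∃ i, Ideal.Quotient.mk I (g i) ∉ (z : PrimeSpectrum (A ⧸ I)).asIdeal := by
      by_contra hne
      simp only [not_exists, not_not] at hne
      refine (z : PrimeSpectrum (A ⧸ I)).isPrime.ne_top (Ideal.eq_top_iff_one _ |>.2 ?_)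
      have h1 : (1 : A) ∈ Ideal.comap (Ideal.Quotient.mk I) (z : PrimeSpectrum (A ⧸ I)).asIdeal := by
        have htop : (1 : A) ∈ I ⊔ Ideal.span (Set.range g) := hcov ▸ Submodule.mem_top
        have hle : I ⊔ Ideal.span (Set.range g) ≤ Ideal.comap (Ideal.Quotient.mk I) (z : PrimeSpectrum (A ⧸ I)).asIdeal :=
          sup_le (fun a ha => ?_) (Ideal.span_le.2 (Set.range_subset_iff.2 hne))
        exact hle htop
        show Ideal.Quotient.mk I a ∈ (z : PrimeSpectrum (A ⧸ I)).asIdeal
        rw [Ideal.Quotient.eq_zero_iff_mem.2 ha]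
        exact zero_mem _
      simpa using h1
    obtain ⟨w, hw⟩ : z ∈ Set.range (PrimeSpectrum.comap (algebraMap (A ⧸ I) (R I (g i)))) := by
      rw [PrimeSpectrum.localization_away_comap_range (R I (g i)) (Ideal.Quotient.mk I (g i))]
      exact hi
    exact ⟨i, w, hw⟩
  obtain ⟨t, ht⟩ := hasGerms.exists_glue (fun i => obj A (R I (g i))) hm het hsurj
    (fun i => (P A).map (objMap (π i)).op (sec (B i) (b i))) fun i j G a a' hG _ =>
      germ_overlap (hnb i) (hnb j) (π i) (π j) (hHij i j) ((σ i j).comp ((ξ i).restrictScalars A))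
        ((τ i j).comp ((ξ j).restrictScalars A)) (by
          show σ i j (ξ i (b i)) = τ i j (ξ j (b j))
          rw [hb', hb']; exact hs i j) a a' hG
  obtain ⟨t', ht'⟩ := (bijective_restrict (I := I)).2 t
  obtain ⟨x, hx⟩ := (sec_bijective (A := A) A).2 t'
  refine ⟨x, fun i => ?_⟩
  have hξx : ξ i (algebraMap A (B i) x) = ξ i (b i) := by
    haveI := (hHi i).1
    refine map_eq_of_forall_mul (I := I.map (algebraMap A (B i))) (J := (I.map (algebraMap A (Localization.Away (g i)))).map
      (algebraMap (Localization.Away (g i)) (Hi i))) (ξ i).toRingHom ?_ fun q hq => ?_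
    · rw [Ideal.map_map, Ideal.map_map]
      apply le_of_eq
      congr 1
      exact RingHom.ext fun a => (ξ i).commutes (algebraMap A _ a)
    have hqI : I ≤ q.asIdeal.comap (algebraMap A (B i)) := Ideal.map_le_iff_le_comap.1 hq
    have hqg : g i ∉ q.asIdeal.comap (algebraMap A (B i)) := fun h => q.isPrime.ne_top
      (Ideal.eq_top_of_isUnit_mem _ h (by
        rw [IsScalarTower.algebraMap_apply A (Localization.Away (g i)) (B i)]
        exact (IsLocalization.Away.algebraMap_isUnit (g i)).map _))
    obtain ⟨z, hz⟩ : ∃ z : PrimeSpectrum (R I (g i)), z.asIdeal.comap (algebraMap A (R I (g i))) = q.asIdeal.comap (algebraMap A (B i)) := by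
      let p₀ : PrimeSpectrum A := PrimeSpectrum.comap (algebraMap A (B i)) q
      obtain ⟨z₀, hz₀⟩ : p₀ ∈ Set.range (PrimeSpectrum.comap (Ideal.Quotient.mk I)) := by
        rw [range_comap_of_surjective _ _ Ideal.Quotient.mk_surjective, Ideal.mk_ker]
        exact hqI
      have hz₁ : z₀ ∈ Set.range (PrimeSpectrum.comap (algebraMap (A ⧸ I) (R I (g i)))) := by
        rw [PrimeSpectrum.localization_away_comap_range (R I (g i)) (Ideal.Quotient.mk I (g i))]
        intro h
        exact hqg (show g i ∈ p₀.asIdeal from hz₀ ▸ h)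
      obtain ⟨z, rfl⟩ := hz₁
      refine ⟨z, ?_⟩
      rw [IsScalarTower.algebraMap_eq A (A ⧸ I) (R I (g i)), ← Ideal.comap_comap]
      exact congrArg PrimeSpectrum.asIdeal hz₀
    obtain ⟨G, a, hG, ha⟩ := exists_geo_at (obj A (R I (g i))) z
    refine exists_mul_eq (a ≫ objMap (π i)) hG q (fun p => ?_) ?_
    · show PrimeSpectrum.comap (π i).toRingHom (a.left p) = q
      rw [ha p]
      refine ((hnb i).eq_of_comap ?_ hqI hqg).symm
      show _ = (z.asIdeal.comap (π i).toRingHom).comap (algebraMap A (B i))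
      rw [Ideal.comap_comap, ← hz]
      congr 1
      exact (π i).comp_algebraMap.symm
    · have e := ht i
      rw [← ht', ← hx, ← map_comp_apply'] at e
      have e2 : (hm i) ≫ objMap (A := A) (Algebra.ofId A (A ⧸ I)) = objMap (π i) ≫ objMap (Algebra.ofId A (B i)) := by
        rw [objMap_comp, objMap_comp, Subsingleton.elim ((IsScalarTower.toAlgHom A (A ⧸ I) (R I (g i))).comp (Algebra.ofId A (A ⧸ I)))
          ((π i).comp (Algebra.ofId A (B i)))]
      rw [e2, map_comp_apply', sec_map] at e
      rw [map_comp_apply', map_comp_apply']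
      exact congrArg _ e
  rw [hb'] at hξx
  rw [← hξx]
  exact ((ξ i).restrictScalars A).commutes x |>.symm

end HensGlueLib
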