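import Groth.Agent.EtH0Lib.Main
import Groth.Agent.PairHensLib.Nbhd
import Groth.Prelude.Def_EtGm

/-!
# Germs of functions at geometric points over a closed subset, via the pullback of `G_a` to the big site
-/

set_option autoImplicit false
set_option maxHeartbeats 1000000
set_option linter.style.haveILetI false
set_option linter.unusedSectionVars false
set_option backward.isDefEq.respectTransparency false
set_option backward.isDefEq.respectTransparency.types false
universe u

open CategoryTheory CategoryTheory.Limits AlgebraicGeometry Opposite EtDescentLib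

noncomputable section

namespace HensGlueLib

variable {A : Type u} [CommRing A]

/-- The affine scheme over `Spec A` of an algebra. -/
abbrev obj (A : Type u) [CommRing A] (B : Type u) [CommRing B] [Algebra A B] : Over (Spec (CommRingCat.of A)) :=
  Over.mk (Spec.map (CommRingCat.ofHom (algebraMap A B)))

/-- The morphism of an algebra map. -/
abbrev objMap {B C : Type u} [CommRing B] [Algebra A B] [CommRing C] [Algebra A C] (φ : B →ₐ[A] C) :
    obj A C ⟶ obj A B :=
  Over.homMk (Spec.map (CommRingCat.ofHom φ.toRingHom)) (by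
    show Spec.map _ ≫ Spec.map _ = Spec.map _
    rw [← Spec.map_comp, ← CommRingCat.ofHom_comp, AlgHom.toRingHom_eq_coe, φ.comp_algebraMap])

/-- The presheaf of germs of functions. -/
abbrev P (A : Type u) [CommRing A] : (Over (Spec (CommRingCat.of A)))ᵒᵖ ⥤ Type (u + 1) :=
  ((BigSite.piEtPull Scheme.etalePrecoverage (Spec (CommRingCat.of A))).obj
    (EtCoh.Ga (Spec (CommRingCat.of A)))).obj ⋙ forget AddCommGrpCat.{u + 1}

theorem hasGerms : HasGerms (P A) := hasGerms_piEtPull _ _

theorem etale_obj (B : Type u) [CommRing B] [Algebra A B] [Algebra.Etale A B] : Etale (obj A B).hom :=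
  (HasRingHomProperty.Spec_iff (P := @Etale)).2
    (RingHom.etale_algebraMap.2 (inferInstance : Algebra.Etale A B))

/-- The object of the small étale site. -/
abbrev etObj (B : Type u) [CommRing B] [Algebra A B] [Algebra.Etale A B] : (Spec (CommRingCat.of A)).Etale :=
  haveI := etale_obj (A := A) B
  Scheme.Etale.mk (obj A B).hom

/-- The unit. -/
abbrev η (V : (Spec (CommRingCat.of A)).Etale) :
    (EtCoh.Ga (Spec (CommRingCat.of A))).obj.obj (op V) → (P A).obj (op ((EtFppf.a _).obj V)) :=
  ((BigSite.piEtAdj Scheme.etalePrecoverage (Spec (CommRingCat.of A))).unit.app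
    (EtCoh.Ga (Spec (CommRingCat.of A)))).hom.app (op V)

theorem η_bijective (V : (Spec (CommRingCat.of A)).Etale) : Function.Bijective (η V) := by
  haveI : IsIso (BigSite.piEtAdj Scheme.etalePrecoverage (Spec (CommRingCat.of A))).unit :=
    BigEtLib.isIso_piEtAdj_unit _
  haveI : IsIso (((BigSite.piEtAdj Scheme.etalePrecoverage (Spec (CommRingCat.of A))).unit.app
      (EtCoh.Ga (Spec (CommRingCat.of A)))).hom.app (op V)) := by
    haveI : IsIso ((sheafToPresheaf _ _).map ((BigSite.piEtAdj Scheme.etalePrecoverage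
      (Spec (CommRingCat.of A))).unit.app (EtCoh.Ga (Spec (CommRingCat.of A))))) := inferInstance
    exact inferInstanceAs (IsIso (((sheafToPresheaf _ _).map _).app (op V)))
  exact ConcreteCategory.bijective_of_isIso _

theorem η_natural {V W : (Spec (CommRingCat.of A)).Etale} (p : W ⟶ V)
    (s : (EtCoh.Ga (Spec (CommRingCat.of A))).obj.obj (op V)) :
    η W ((EtCoh.Ga (Spec (CommRingCat.of A))).obj.map p.op s) = (P A).map ((EtFppf.a _).map p).op (η V s) :=
  (ConcreteCategory.congr_hom
    (((BigSite.piEtAdj Scheme.etalePrecoverage (Spec (CommRingCat.of A))).unit.app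
      (EtCoh.Ga (Spec (CommRingCat.of A)))).hom.naturality p.op) s :)

/-- A function on an étale scheme as a germ section. -/
def fn (V : (Spec (CommRingCat.of A)).Etale) (s : Γ(V.left, ⊤)) : (P A).obj (op ((EtFppf.a _).obj V)) :=
  η V (ULift.up s)

theorem fn_natural {V W : (Spec (CommRingCat.of A)).Etale} (p : W ⟶ V) (s : Γ(V.left, ⊤)) :
    (P A).map ((EtFppf.a _).map p).op (fn V s) = fn W (p.left.appTop s) :=
  (η_natural p (ULift.up s)).symm

theorem fn_bijective (V : (Spec (CommRingCat.of A)).Etale) : Function.Bijective (fn V) :=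
  (η_bijective V).comp ⟨fun _ _ h => congrArg ULift.down h, fun x => ⟨x.down, rfl⟩⟩

/-- An element of an étale algebra as a germ section. -/
def sec (B : Type u) [CommRing B] [Algebra A B] [Algebra.Etale A B] (b : B) : (P A).obj (op (obj A B)) :=
  fn (etObj B) ((Scheme.ΓSpecIso (CommRingCat.of B)).inv b)

theorem sec_bijective (B : Type u) [CommRing B] [Algebra A B] [Algebra.Etale A B] :
    Function.Bijective (sec (A := A) B) :=
  (fn_bijective (etObj B)).comp (ConcreteCategory.bijective_of_isIso (Scheme.ΓSpecIso (CommRingCat.of B)).inv)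

theorem sec_map {B C : Type u} [CommRing B] [Algebra A B] [Algebra.Etale A B] [CommRing C] [Algebra A C]
    [Algebra.Etale A C] (φ : B →ₐ[A] C) (b : B) : (P A).map (objMap φ).op (sec B b) = sec C (φ b) := by
  let p : etObj (A := A) C ⟶ etObj B := MorphismProperty.Over.homMk (objMap φ).left (Over.w (objMap φ)) trivial
  have h := fn_natural p ((Scheme.ΓSpecIso (CommRingCat.of B)).inv b)
  refine Eq.trans (congrArg (fun m => (P A).map (Quiver.Hom.op m) (sec B b)) ?_) (h.trans ?_)
  · rfl
  · refine congrArg (fn (etObj C)) ?_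
    show (Spec.map (CommRingCat.ofHom φ.toRingHom)).appTop ((Scheme.ΓSpecIso (CommRingCat.of B)).inv b) = _
    rw [← ConcreteCategory.comp_apply, ← Scheme.ΓSpecIso_inv_naturality]
    rfl

theorem etale_objMap {B C : Type u} [CommRing B] [Algebra A B] [Algebra.Etale A B] [CommRing C] [Algebra A C]
    [Algebra.Etale A C] (φ : B →ₐ[A] C) : Etale (objMap φ).left := by
  haveI := etale_obj (A := A) B
  haveI : Etale ((objMap φ).left ≫ (obj A B).hom) := by
    rw [Over.w]; exact etale_obj C
  exact MorphismProperty.of_postcomp (W := @Etale) (W' := @Etale) (objMap φ).left (obj A B).hom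
    inferInstance inferInstance

/-- Sections equal after an étale algebra have equal germs at the points in its image. -/
theorem germ_eq_of_ker {B C : Type u} [CommRing B] [Algebra A B] [Algebra.Etale A B] [CommRing C] [Algebra A C]
    [Algebra.Etale A C] (ψ : B →ₐ[A] C) {y y' : B} (h : ψ y = ψ y') {G : Over (Spec (CommRingCat.of A))}
    (c : G ⟶ obj A B) (hG : IsGeo G.left) (w : PrimeSpectrum C)
    (hw : ∀ p, c.left p = PrimeSpectrum.comap ψ.toRingHom w) :
    (P A).map c.op (sec B y) = (P A).map c.op (sec B y') := by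
  haveI := etale_objMap ψ
  obtain ⟨d, rfl, -⟩ := exists_lift (objMap ψ) c hG w hw
  rw [map_comp_apply', map_comp_apply', sec_map, sec_map, h]

/-- Flat local homomorphisms are injective. -/
theorem injective_of_flat {R T : Type u} [CommRing R] [CommRing T] [IsLocalRing R] [IsLocalRing T] (f : R →+* T)
    (hf : f.Flat) (hl : IsLocalHom f) : Function.Injective f := by
  letI := f.toAlgebra
  haveI : Module.Flat R T := hf
  haveI : IsLocalHom (algebraMap R T) := hl
  haveI : Module.FaithfullyFlat R T := Module.FaithfullyFlat.of_flat_of_isLocalHom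
  exact FaithfulSMul.algebraMap_injective R T

/-- Equal germs at a point give equal germs of functions there. -/
theorem exists_mul_eq {B : Type u} [CommRing B] [Algebra A B] [Algebra.Etale A B] {y y' : B}
    {G : Over (Spec (CommRingCat.of A))} (c : G ⟶ obj A B) (hG : IsGeo G.left) (q : PrimeSpectrum B)
    (hq : ∀ p, c.left p = q) (h : (P A).map c.op (sec B y) = (P A).map c.op (sec B y')) :
    ∃ t ∉ q.asIdeal, t * y = t * y' := by
  obtain ⟨g⟩ := hG.nonempty
  obtain ⟨W, m, hm, ⟨w, hw⟩, he⟩ := hasGerms.mem_eqLocus c hG h g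
  rw [hq g] at hw
  haveI := hm
  haveI := etale_obj (A := A) B
  haveI : Etale W.hom := by rw [← Over.w m]; infer_instance
  let V : (Spec (CommRingCat.of A)).Etale := Scheme.Etale.mk W.hom
  let p : V ⟶ etObj B := MorphismProperty.Over.homMk m.left (Over.w m) trivial
  have e : fn V (p.left.appTop ((Scheme.ΓSpecIso (CommRingCat.of B)).inv y)) =
      fn V (p.left.appTop ((Scheme.ΓSpecIso (CommRingCat.of B)).inv y')) := by
    rw [← fn_natural, ← fn_natural]
    exact he
  have e' := (fn_bijective V).1 e
  subst hw
  have e'' : m.left.stalkMap w ((Spec (CommRingCat.of B)).presheaf.germ ⊤ (m.left w) trivial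
        ((Scheme.ΓSpecIso (CommRingCat.of B)).inv y)) =
      m.left.stalkMap w ((Spec (CommRingCat.of B)).presheaf.germ ⊤ (m.left w) trivial
        ((Scheme.ΓSpecIso (CommRingCat.of B)).inv y')) := by
    erw [Scheme.Hom.germ_stalkMap_apply m.left ⊤ w trivial, Scheme.Hom.germ_stalkMap_apply m.left ⊤ w trivial]
    exact congrArg _ e'
  haveI : Flat m.left := inferInstance
  have hfl : (m.left.stalkMap w).hom.Flat := Flat.stalkMap m.left w
  have hinj : Function.Injective (m.left.stalkMap w).hom :=
    injective_of_flat (m.left.stalkMap w).hom hfl (inferInstanceAs (IsLocalHom (m.left.stalkMap w).hom))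
  letI alg : Algebra B ((Spec (CommRingCat.of B)).presheaf.stalk (m.left w)) :=
    (StructureSheaf.toStalk B (m.left w)).hom.toAlgebra
  haveI : IsLocalization.AtPrime ((Spec (CommRingCat.of B)).presheaf.stalk (m.left w))
      (m.left w : PrimeSpectrum B).asIdeal := StructureSheaf.IsLocalization.to_stalk B (m.left w)
  have e3 : algebraMap B ((Spec (CommRingCat.of B)).presheaf.stalk (m.left w)) y =
      algebraMap B ((Spec (CommRingCat.of B)).presheaf.stalk (m.left w)) y' := hinj e''
  obtain ⟨t, ht⟩ := (IsLocalization.eq_iff_exists (m.left w : PrimeSpectrum B).asIdeal.primeCompl _).1 e3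
  exact ⟨t, t.2, ht⟩

/-- An element with vanishing germs along `V(I)` dies in henselian pairs. -/
theorem map_eq_of_forall_mul {B C : Type u} [CommRing B] [CommRing C] {I : Ideal B} {J : Ideal C} [HenselianRing C J]
    (φ : B →+* C) (hφ : I.map φ ≤ J) {y y' : B}
    (h : ∀ q : PrimeSpectrum B, I ≤ q.asIdeal → ∃ t ∉ q.asIdeal, t * y = t * y') : φ y = φ y' := by
  let N : Ideal B := LinearMap.ker (LinearMap.mulLeft B (y - y'))
  have htop : N ⊔ I = ⊤ := by
    by_contra hne
    obtain ⟨M, hM, hle⟩ := Ideal.exists_le_maximal _ hne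
    obtain ⟨t, ht, he⟩ := h ⟨M, hM.isPrime⟩ (le_sup_right.trans hle)
    exact ht (hle (Ideal.mem_sup_left (by
      show (y - y') * t = 0
      rw [mul_comm, mul_sub, he, sub_self])))
  obtain ⟨t, ht, i, hi, e⟩ := Submodule.mem_sup.1 (htop ▸ Submodule.mem_top : (1 : B) ∈ N ⊔ I)
  have hu : IsUnit (φ t) := by
    refine HenselLib.isUnit_of_sub_mem (HenselianRing.jac (I := J)) isUnit_one ?_
    have : φ t - 1 = -φ i := by rw [← map_one φ, ← e, map_add]; ring
    rw [this]
    exact J.neg_mem (hφ (Ideal.mem_map_of_mem φ hi))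
  have h0 : (φ y - φ y') * φ t = 0 := by
    rw [← map_sub, ← map_mul, show (y - y') * t = 0 from ht, map_zero]
  exact sub_eq_zero.1 (hu.mul_left_eq_zero.1 h0)

end HensGlueLib
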