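import Groth.Agent.HensGlueLib.Sections

/-!
# Global sections for henselian pairs
-/

set_option autoImplicit false
set_option maxHeartbeats 1000000
set_option linter.style.haveILetI false
set_option linter.unusedSectionVars false
set_option backward.isDefEq.respectTransparency false
set_option backward.isDefEq.respectTransparency.types false
universe u

open CategoryTheory TopologicalSpace Opposite AlgebraicGeometry
open scoped TensorProduct

noncomputable section

namespace HensGlueLib

variable {A : Type u} [CommRing A] {I : Ideal A} [HenselianRing A I] {X : LocallyRingedSpace.{u}} (π : X ⟶ HensSch.specLRS A)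

/-- A henselian pair is its own henselization. -/
theorem algebraMap_bijective_of_isHensAway_one {S : Type u} [CommRing S] (φ : A →+* S)
    (h : HensSch.IsHensAway A I 1 S φ) : Function.Bijective φ := by
  obtain ⟨hu, hh, huniv⟩ := h
  obtain ⟨k, hk, -⟩ := huniv A I (RingHom.id A) inferInstance (le_of_eq (Ideal.map_id I)) isUnit_one
  have e : φ.comp k = RingHom.id S := (huniv S (I.map φ) φ hh le_rfl hu).unique
    (by rw [RingHom.comp_assoc, hk, RingHom.comp_id]) (RingHom.id_comp φ)
  exact ⟨fun a b hab => by
    have := congrArg k hab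
    rwa [← RingHom.comp_apply, ← RingHom.comp_apply, hk] at this, fun s => ⟨k s, RingHom.congr_fun e s⟩⟩

variable (M : ModuleCat.{u} A)

theorem le_dOpen_one (U : Opens X) : U ≤ HensSch.dOpen π (1 : A) := fun x _ h =>
  (π.base x : PrimeSpectrum A).isPrime.ne_top ((Ideal.eq_top_iff_one _).2 h)

theorem θ_top_bijective (hX : HensSch.IsSph A I X π) : Function.Bijective (θ₀ π M) := by
  have hb := algebraMap_bijective_of_isHensAway_one _ (isHensAway_Sec π hX (1 : A))
  let e : A ≃ₐ[A] Sec π (HensSch.dOpen π (1 : A)) := AlgEquiv.ofBijective (Algebra.ofId A _) hb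
  let e' : M ≃ₗ[A] Sec π (HensSch.dOpen π (1 : A)) ⊗[A] M :=
    (TensorProduct.lid A M).symm ≪≫ₗ TensorProduct.congr e.toLinearEquiv (LinearEquiv.refl A M)
  have h1 : Function.Bijective (θ π M (HensSch.dOpen π (1 : A))) := by
    have heq : (θ π M (HensSch.dOpen π (1 : A)) : M → _) = Θ π M (HensSch.dOpen π (1 : A)) ∘ e' := funext fun m => by
      show _ = Θ π M _ (e'.toLinearMap m)
      simp only [e', LinearEquiv.coe_coe, LinearEquiv.trans_apply, TensorProduct.lid_symm_apply, TensorProduct.congr_tmul,
        LinearEquiv.refl_apply]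
      rw [show e.toLinearEquiv 1 = (1 : Sec π (HensSch.dOpen π (1 : A))) from map_one e, Θ_tmul]
      exact (one_smul _ _).symm
    rw [heq]
    exact (Θ_bijective π M hX 1).comp e'.bijective
  have hres : Function.Bijective (resM π M (le_top : HensSch.dOpen π (1 : A) ≤ (Opens.map π.base).obj ⊤)) := by
    refine Function.bijective_iff_has_inverse.2 ⟨resM π M (le_dOpen_one π _), fun s => ?_, fun s => ?_⟩
    · rw [resM_resM]
      exact ConcreteCategory.congr_hom ((HensSch.sphTilde π M).val.presheaf.map_id _) s
    · rw [resM_resM]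
      exact ConcreteCategory.congr_hom ((HensSch.sphTilde π M).val.presheaf.map_id _) s
  exact (Function.Bijective.of_comp_iff' hres (θ₀ π M)).1 h1

/-- The functor `M ↦ M~` is fully faithful for henselian pairs. -/
theorem full_and_faithful (hX : HensSch.IsSph A I X π) :
    (HensSch.sphTildeFunctor π).Full ∧ (HensSch.sphTildeFunctor π).Faithful := by
  let adj := (tilde.adjunction (R := CommRingCat.of A)).comp (HensSch.pullPushAdj π)
  haveI : ∀ N, IsIso (adj.unit.app N) := fun N => (ConcreteCategory.isIso_iff_bijective _).2 (θ_top_bijective π N hX)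
  haveI : IsIso adj.unit := NatIso.isIso_of_isIso_app _
  exact ⟨adj.fullyFaithfulLOfIsIsoUnit.full, adj.fullyFaithfulLOfIsIsoUnit.faithful⟩

end HensGlueLib
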