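import Groth.Agent.HensGlueLib.Global
import Groth.Agent.HensGlueLib.BaseChange

/-!
# Direct images along finite maps of affine Henselian spectra
-/

set_option autoImplicit false
set_option maxHeartbeats 1000000
set_option linter.style.haveILetI false
set_option linter.unusedSectionVars false
set_option backward.isDefEq.respectTransparency false
set_option backward.isDefEq.respectTransparency.types false
universe u

open CategoryTheory TopologicalSpace Opposite AlgebraicGeometry
open scoped TensorProduct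

noncomputable section

namespace HensGlueLib

variable {A B : Type u} [CommRing A] [CommRing B] [Algebra A B] {I : Ideal A}
  {X Y : LocallyRingedSpace.{u}} (πA : X ⟶ HensSch.specLRS A) (πB : Y ⟶ HensSch.specLRS B) (φ : Y ⟶ X)

variable (hφ : φ ≫ πA = πB ≫ (Spec.map (CommRingCat.ofHom (algebraMap A B))).toLRSHom)
include hφ

theorem base_apply (y : Y) :
    (πA.base (φ.base y) : PrimeSpectrum A) = PrimeSpectrum.comap (algebraMap A B) (πB.base y) :=
  congrArg (fun g : Y ⟶ HensSch.specLRS A => g.base y) hφ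

theorem preimage_dOpen (f : A) :
    (Opens.map φ.base).obj (HensSch.dOpen πA f) = HensSch.dOpen πB (algebraMap A B f) := by
  ext y
  show f ∉ (πA.base (φ.base y) : PrimeSpectrum A).asIdeal ↔ _
  rw [base_apply πA πB φ hφ]
  rfl

theorem secA_top (a : A) :
    (φ.c.app (op ((Opens.map πA.base).obj ⊤))).hom (secA πA ((Opens.map πA.base).obj ⊤) a) =
      secA πB ((Opens.map φ.base).obj ((Opens.map πA.base).obj ⊤)) (algebraMap A B a) := by
  have h : (φ.c.app (op ((Opens.map πA.base).obj ⊤))).hom ((πA.c.app (op ⊤)).hom ((Scheme.ΓSpecIso (CommRingCat.of A)).inv.hom a)) =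
      (πB.c.app (op ⊤)).hom ((Spec.map (CommRingCat.ofHom (algebraMap A B))).appTop ((Scheme.ΓSpecIso (CommRingCat.of A)).inv.hom a)) := by
    exact congrArg (fun g : Y ⟶ HensSch.specLRS A => (LocallyRingedSpace.Γ.map g.op).hom ((Scheme.ΓSpecIso (CommRingCat.of A)).inv.hom a)) hφ
  have e1 : secA πA ((Opens.map πA.base).obj ⊤) a = (πA.c.app (op ⊤)).hom ((Scheme.ΓSpecIso (CommRingCat.of A)).inv.hom a) :=
    ConcreteCategory.congr_hom (X.presheaf.map_id _) _
  have e2 : secA πB ((Opens.map πB.base).obj ⊤) (algebraMap A B a) = (πB.c.app (op ⊤)).hom ((Scheme.ΓSpecIso (CommRingCat.of B)).inv.hom (algebraMap A B a)) :=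
    ConcreteCategory.congr_hom (Y.presheaf.map_id _) _
  rw [e1, h]
  refine Eq.trans ?_ e2.symm
  congr 1
  rw [← ConcreteCategory.comp_apply, ← Scheme.ΓSpecIso_inv_naturality]
  rfl

/-- The map on sections. -/
def jmap (U : Opens X) : Sec πA U →+* Sec πB ((Opens.map φ.base).obj U) := (φ.c.app (op U)).hom

theorem jmap_algebraMap (U : Opens X) (a : A) :
    jmap πA πB φ U (algebraMap A (Sec πA U) a) = algebraMap B (Sec πB ((Opens.map φ.base).obj U)) (algebraMap A B a) := by
  show (φ.c.app (op U)).hom (secA πA U a) = secA πB _ (algebraMap A B a)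
  rw [← secA_res πA (le_top : U ≤ (Opens.map πA.base).obj ⊤) a, ← CommRingCat.comp_apply, φ.c.naturality]
  refine (congrArg _ (secA_top πA πB φ hφ a)).trans ?_
  exact secA_res πB ((Opens.map φ.base).monotone (le_top : U ≤ (Opens.map πA.base).obj ⊤)) _

variable (N : ModuleCat.{u} B)

/-- The canonical map to the global sections of the direct image. -/
def gHom : (ModuleCat.restrictScalars (algebraMap A B)).obj N ⟶
    (moduleSpecΓFunctor (R := CommRingCat.of A)).obj ((HensSch.pushMod πA).obj ((HensSch.pushMod φ).obj (HensSch.sphTilde πB N))) :=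
  ModuleCat.ofHom (X := ((ModuleCat.restrictScalars (algebraMap A B)).obj N : Type u))
    (Y := (moduleSpecΓFunctor (R := CommRingCat.of A)).obj ((HensSch.pushMod πA).obj ((HensSch.pushMod φ).obj (HensSch.sphTilde πB N))))
    { toFun := fun (n : (ModuleCat.restrictScalars (algebraMap A B)).obj N) => θ₀ πB N n
      map_add' := fun m n => θ₀_add πB N m n
      map_smul' := fun a n => by
        refine (θ₀_smul πB N (algebraMap A B a) n).trans ?_
        refine congrArg (fun z : Sec πB ((Opens.map φ.base).obj ((Opens.map πA.base).obj ⊤)) => z • θ₀ πB N n) ?_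
        refine (secA_top πA πB φ hφ a).symm.trans (congrArg (φ.c.app (op ((Opens.map πA.base).obj ⊤))).hom ?_)
        exact ConcreteCategory.congr_hom (X.presheaf.map_id _) _ }

/-- The natural map to the direct image. -/
def eHom : HensSch.sphTilde πA ((ModuleCat.restrictScalars (algebraMap A B)).obj N) ⟶
    (HensSch.pushMod φ).obj (HensSch.sphTilde πB N) :=
  (((tilde.adjunction (R := CommRingCat.of A)).comp (HensSch.pullPushAdj πA)).homEquiv _ _).symm (gHom πA πB φ hφ N)

theorem eHom_θ₀ (n : N) :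
    ((eHom πA πB φ hφ N).val.app (op ((Opens.map πA.base).obj ⊤))).hom
      (θ₀ πA ((ModuleCat.restrictScalars (algebraMap A B)).obj N) n) = θ₀ πB N n := by
  have h := ((tilde.adjunction (R := CommRingCat.of A)).comp (HensSch.pullPushAdj πA)).homEquiv_unit
    ((ModuleCat.restrictScalars (algebraMap A B)).obj N) ((HensSch.pushMod φ).obj (HensSch.sphTilde πB N)) (eHom πA πB φ hφ N)
  rw [eHom, Equiv.apply_symm_apply] at h
  exact (ConcreteCategory.congr_hom h n).symm

/-- The natural map on sections. -/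
def Φ (U : Opens X) : Mo πA ((ModuleCat.restrictScalars (algebraMap A B)).obj N) U →+ Mo πB N ((Opens.map φ.base).obj U) where
  toFun s := ((eHom πA πB φ hφ N).val.app (op U)).hom s
  map_zero' := map_zero _
  map_add' := map_add _

theorem Φ_smul (U : Opens X) (r : Sec πA U) (s : Mo πA ((ModuleCat.restrictScalars (algebraMap A B)).obj N) U) :
    Φ πA πB φ hφ N U (r • s) = jmap πA πB φ U r • Φ πA πB φ hφ N U s :=
  map_smul ((eHom πA πB φ hφ N).val.app (op U)).hom r s

theorem Φ_res {U V : Opens X} (h : V ≤ U) (s : Mo πA ((ModuleCat.restrictScalars (algebraMap A B)).obj N) U) :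
    Φ πA πB φ hφ N V (resM πA _ h s) = resM πB N ((Opens.map φ.base).monotone h) (Φ πA πB φ hφ N U s) :=
  PresheafOfModules.naturality_apply (eHom πA πB φ hφ N).val (homOfLE h).op s

theorem Φ_θ (U : Opens X) (n : N) :
    Φ πA πB φ hφ N U (θ πA ((ModuleCat.restrictScalars (algebraMap A B)).obj N) U n) = θ πB N _ n := by
  refine (Φ_res πA πB φ hφ N (le_top : U ≤ (Opens.map πA.base).obj ⊤) _).trans ?_
  exact congrArg (resM πB N ((Opens.map φ.base).monotone (le_top : U ≤ (Opens.map πA.base).obj ⊤))) (eHom_θ₀ πA πB φ hφ N n)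

variable [Module.Finite A B]

theorem Φ_bijective (hX : HensSch.IsSph A I X πA) (hY : HensSch.IsSph B (I.map (algebraMap A B)) Y πB) (f : A) :
    Function.Bijective (Φ πA πB φ hφ N (HensSch.dOpen πA f)) := by
  let U := HensSch.dOpen πA f
  let V := (Opens.map φ.base).obj (HensSch.dOpen πA f)
  have hV : ∀ W : Opens Y, W = HensSch.dOpen πB (algebraMap A B f) →
      Function.Bijective (Θ πB N W) ∧ HensSch.IsHensAway B (I.map (algebraMap A B)) (algebraMap A B f) (Sec πB W) (algebraMap B (Sec πB W)) := by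
    rintro W rfl
    exact ⟨Θ_bijective πB N hY _, isHensAway_Sec πB hY _⟩
  obtain ⟨hΘB, hTB⟩ := hV V (preimage_dOpen πA πB φ hφ f)
  let NA := (ModuleCat.restrictScalars (algebraMap A B)).obj N
  letI : Module A N := Module.compHom N (algebraMap A B)
  haveI : IsScalarTower A B N := IsScalarTower.of_algebraMap_smul fun _ _ => rfl
  let K : Sec πA U ⊗[A] N →+ Sec πB V ⊗[B] N := TensorProduct.liftAddHom
    { toFun := fun s => (TensorProduct.mk B (Sec πB V) N (jmap πA πB φ U s)).toAddMonoidHom
      map_zero' := by rw [map_zero, map_zero]; rfl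
      map_add' := fun s t => by rw [map_add, map_add]; rfl }
    (fun a s n => by
      show jmap πA πB φ U (a • s) ⊗ₜ[B] n = jmap πA πB φ U s ⊗ₜ[B] (a • n)
      rw [Algebra.smul_def, map_mul, jmap_algebraMap πA πB φ hφ, ← Algebra.smul_def, TensorProduct.smul_tmul, ← IsScalarTower.algebraMap_smul B a n])
  have hKb : Function.Bijective K :=
    bijective_baseChange (jmap πA πB φ U) (jmap_algebraMap πA πB φ hφ U) (isHensAway_Sec πA hX f) hTB K fun _ _ => rfl
  have e : ∀ t : Sec πA U ⊗[A] N, Φ πA πB φ hφ N U (Θ πA NA U t) = Θ πB N V (K t) := fun t => by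
    induction t using TensorProduct.induction_on with
    | zero => simp
    | add a b ha hb => simp only [map_add]; exact congrArg₂ (· + ·) ha hb
    | tmul s n =>
      show Φ πA πB φ hφ N U (s • θ πA NA U n) = jmap πA πB φ U s • θ πB N V n
      rw [Φ_smul, Φ_θ]
  have h2 : Function.Bijective ((Φ πA πB φ hφ N U) ∘ (Θ πA NA U)) := by
    rw [show (Φ πA πB φ hφ N U) ∘ (Θ πA NA U) = (Θ πB N V) ∘ K from funext e]
    exact hΘB.comp hKb
  exact (Function.Bijective.of_comp_iff _ (Θ_bijective πA NA hX f)).1 h2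

theorem isIso_eHom (hX : HensSch.IsSph A I X πA) (hY : HensSch.IsSph B (I.map (algebraMap A B)) Y πB) :
    IsIso (eHom πA πB φ hφ N) := by
  let NA := (ModuleCat.restrictScalars (algebraMap A B)).obj N
  let F := HensSch.sphTilde πA NA
  let G := (HensSch.pushMod φ).obj (HensSch.sphTilde πB N)
  let gG : ∀ {U : Opens X} (x : X), x ∈ U → Mo πB N ((Opens.map φ.base).obj U) → (FlatMorLib.stalk X.sheaf x).obj G :=
    fun {U} x hx t => (FlatMorLib.prs X.sheaf G).germ U x hx t
  refine FlatMorLib.isIso_of_stalks X.sheaf (eHom πA πB φ hφ N) fun x => ?_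
  refine (ConcreteCategory.isIso_iff_bijective _).2 ⟨(injective_iff_map_eq_zero _).2 fun z hz => ?_, fun w => ?_⟩
  · obtain ⟨U, hU, s, rfl⟩ := (FlatMorLib.prs X.sheaf F).exists_germ_eq (x := x) z
    have hz' : gG x hU (Φ πA πB φ hφ N U s) = gG x hU (0 : Mo πB N ((Opens.map φ.base).obj U)) :=
      ((FlatMorLib.stalk_germ X.sheaf x (eHom πA πB φ hφ N) hU s).symm.trans hz).trans
        (map_zero ((FlatMorLib.prs X.sheaf G).germ U x hU).hom).symm
    obtain ⟨W, hW, i₁, i₂, e⟩ := TopCat.Presheaf.germ_eq (FlatMorLib.prs X.sheaf G) x hU hU _ _ hz'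
    obtain ⟨g, hxg, hg⟩ := HensSchLib.exists_dOpen_le hX W x hW
    have e' : resM πB N ((Opens.map φ.base).monotone i₁.le) (Φ πA πB φ hφ N U s) = 0 :=
      (show resM πB N ((Opens.map φ.base).monotone i₁.le) (Φ πA πB φ hφ N U s) = resM πB N ((Opens.map φ.base).monotone i₂.le) 0 from e).trans (map_zero _)
    have h0 : resM πA NA (hg.trans i₁.le) s = 0 := (Φ_bijective πA πB φ hφ N hX hY g).1 (by
      rw [map_zero, Φ_res]
      have := congrArg (resM πB N ((Opens.map φ.base).monotone hg)) e'
      rw [resM_resM, map_zero] at this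
      exact this)
    refine (gF_res πA NA (hg.trans i₁.le) x hxg s).symm.trans ?_
    rw [h0]
    exact map_zero _
  · obtain ⟨U, hU, t, rfl⟩ := (FlatMorLib.prs X.sheaf G).exists_germ_eq (x := x) w
    obtain ⟨g, hxg, hg⟩ := HensSchLib.exists_dOpen_le hX U x hU
    obtain ⟨s, hs⟩ := (Φ_bijective πA πB φ hφ N hX hY g).2 (resM πB N ((Opens.map φ.base).monotone hg) t)
    refine ⟨(FlatMorLib.prs X.sheaf F).germ _ x hxg s, ?_⟩
    refine (FlatMorLib.stalk_germ X.sheaf x (eHom πA πB φ hφ N) hxg s).trans ?_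
    refine (congrArg (gG x hxg) hs).trans ?_
    exact TopCat.Presheaf.germ_res_apply (FlatMorLib.prs X.sheaf G) (homOfLE hg) x hxg t

end HensGlueLib
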