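import Groth.Agent.HensGlueLib.Stalk

/-!
# Sections over basic opens of the module attached to a module
-/

set_option autoImplicit false
set_option maxHeartbeats 1000000
set_option linter.style.haveILetI false
set_option linter.unusedSectionVars false
set_option backward.isDefEq.respectTransparency false
set_option backward.isDefEq.respectTransparency.types false
universe u

open CategoryTheory TopologicalSpace Opposite AlgebraicGeometry
open scoped TensorProduct

noncomputable section

namespace HensGlueLib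

variable {A : Type u} [CommRing A] {I : Ideal A} {X : LocallyRingedSpace.{u}} (π : X ⟶ HensSch.specLRS A)

theorem algebraMap_Sec_dOpen (f : A) : algebraMap A (Sec π (HensSch.dOpen π f)) = HensSch.secMap π (PrimeSpectrum.basicOpen f) := rfl

theorem isHensAway_Sec (hX : HensSch.IsSph A I X π) (f : A) :
    HensSch.IsHensAway A I f (Sec π (HensSch.dOpen π f)) (algebraMap A (Sec π (HensSch.dOpen π f))) := hX.2.2 f

theorem mem_dOpen_iff (f : A) (x : X) : x ∈ HensSch.dOpen π f ↔ f ∉ (π.base x : PrimeSpectrum A).asIdeal := Iff.rfl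

theorem dOpen_mul_le_left (f g : A) : HensSch.dOpen π (f * g) ≤ HensSch.dOpen π f := fun x hx h =>
  hx (Ideal.mul_mem_right g _ h)

theorem dOpen_mul_le_right (f g : A) : HensSch.dOpen π (f * g) ≤ HensSch.dOpen π g := fun x hx h =>
  hx (Ideal.mul_mem_left _ f h)

theorem mem_dOpen_mul {f g : A} {x : X} (hf : x ∈ HensSch.dOpen π f) (hg : x ∈ HensSch.dOpen π g) :
    x ∈ HensSch.dOpen π (f * g) := fun h =>
  ((π.base x : PrimeSpectrum A).isPrime.mem_or_mem h).elim hf hg

theorem exists_cover (hX : HensSch.IsSph A I X π) (f : A) {ι : Type u} (g : ι → A)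
    (hcov : ∀ x ∈ HensSch.dOpen π f, ∃ i, x ∈ HensSch.dOpen π (g i))
    (p : PrimeSpectrum A) (hI : I ≤ p.asIdeal) (hf : f ∉ p.asIdeal) : ∃ i, g i ∉ p.asIdeal := by
  obtain ⟨x, rfl⟩ : p ∈ Set.range π.base := by rw [hX.2.1]; exact hI
  exact hcov x hf

variable (M : ModuleCat.{u} A)

theorem ext_of_gF {U : Opens X} {s t : Mo π M U} (h : ∀ x, ∀ hx : x ∈ U, gF π M x hx s = gF π M x hx t) : s = t :=
  TopCat.Presheaf.section_ext (ModSite.toAb (HensSch.sphTilde π M) : TopCat.Sheaf AddCommGrpCat.{u} X.toTopCat) U s t h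

theorem exists_dOpen_gF_eq (hX : HensSch.IsSph A I X π) {U V : Opens X} (x : X) (hU : x ∈ U) (hV : x ∈ V)
    (s : Mo π M U) (t : Mo π M V) (h : gF π M x hU s = gF π M x hV t) :
    ∃ (g : A) (_ : x ∈ HensSch.dOpen π g) (h₁ : HensSch.dOpen π g ≤ U) (h₂ : HensSch.dOpen π g ≤ V),
      resM π M h₁ s = resM π M h₂ t := by
  obtain ⟨W, hW, i₁, i₂, e⟩ := TopCat.Presheaf.germ_eq (FlatMorLib.prs X.sheaf (HensSchFFLib.hp π (tilde M))) x hU hV s t h
  obtain ⟨g, hxg, hg⟩ := HensSchLib.exists_dOpen_le hX W x hW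
  refine ⟨g, hxg, hg.trans i₁.le, hg.trans i₂.le, ?_⟩
  have := congrArg (resM π M hg) (show resM π M i₁.le s = resM π M i₂.le t from e)
  rwa [resM_resM, resM_resM] at this

/-- Canonical tensors inject into the sections. -/
theorem Θ_injective (hX : HensSch.IsSph A I X π) (f : A) : Function.Injective (Θ π M (HensSch.dOpen π f)) := by
  rw [injective_iff_map_eq_zero]
  intro t ht
  have hloc : ∀ x : HensSch.dOpen π f, ∃ (g : A) (_ : (x : X) ∈ HensSch.dOpen π g) (hg : HensSch.dOpen π g ≤ HensSch.dOpen π f),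
      resT π M hg t = 0 := fun x => by
    have h0 : germT π M x.1 x.2 t = 0 := (Ψ_bijective π M x.1).1 (by rw [← gF_Θ, ht, map_zero, map_zero])
    obtain ⟨V, hV, hle, e⟩ := exists_resT_eq_zero π M x.1 x.2 t h0
    obtain ⟨g, hxg, hg⟩ := HensSchLib.exists_dOpen_le hX V x.1 hV
    refine ⟨g, hxg, hg.trans hle, ?_⟩
    have := congrArg (resT π M hg) e
    rwa [resT_resT, map_zero] at this
  choose g hxg hg he using hloc
  exact (sheaf_condition_module f g (exists_cover π hX f g fun x hx => ⟨⟨x, hx⟩, hxg ⟨x, hx⟩⟩) (isHensAway_Sec π hX f)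
    (fun i => isHensAway_Sec π hX (g i)) (fun i j => isHensAway_Sec π hX (g i * g j)) (fun i => res π (hg i))
    (fun i j => res π (dOpen_mul_le_left π (g i) (g j))) (fun i j => res π (dOpen_mul_le_right π (g i) (g j))) M).1 t he

/-- All sections are canonical tensors. -/
theorem Θ_surjective (hX : HensSch.IsSph A I X π) (f : A) : Function.Surjective (Θ π M (HensSch.dOpen π f)) := by
  intro s
  have hloc : ∀ x : HensSch.dOpen π f, ∃ (g : A) (_ : (x : X) ∈ HensSch.dOpen π g) (hg : HensSch.dOpen π g ≤ HensSch.dOpen π f)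
      (t : Sec π (HensSch.dOpen π g) ⊗[A] M), Θ π M _ t = resM π M hg s := fun x => by
    obtain ⟨w, hw⟩ := (Ψ_bijective π M x.1).2 (gF π M x.1 x.2 s)
    obtain ⟨V, hV, hle, t, rfl⟩ := exists_germT_eq π M x.1 w _ x.2
    obtain ⟨g, hxg, h₁, h₂, e⟩ := exists_dOpen_gF_eq π M hX x.1 hV x.2 (Θ π M V t) s (by rw [gF_Θ, hw])
    exact ⟨g, hxg, h₂, resT π M h₁ t, by rw [← resM_Θ, e]⟩
  choose g hxg hg t ht using hloc
  obtain ⟨y, hy⟩ := (sheaf_condition_module f g (exists_cover π hX f g fun x hx => ⟨⟨x, hx⟩, hxg ⟨x, hx⟩⟩) (isHensAway_Sec π hX f)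
    (fun i => isHensAway_Sec π hX (g i)) (fun i j => isHensAway_Sec π hX (g i * g j)) (fun i => res π (hg i))
    (fun i j => res π (dOpen_mul_le_left π (g i) (g j))) (fun i j => res π (dOpen_mul_le_right π (g i) (g j))) M).2 t
    (fun i j => Θ_injective π M hX (g i * g j) (by
      show Θ π M _ (resT π M _ (t i)) = Θ π M _ (resT π M _ (t j))
      rw [← resM_Θ, ← resM_Θ, ht, ht, resM_resM, resM_resM]))
  refine ⟨y, ext_of_gF π M fun x hx => ?_⟩
  rw [← gF_res π M (hg ⟨x, hx⟩) x (hxg ⟨x, hx⟩), resM_Θ, show resT π M (hg ⟨x, hx⟩) y = t ⟨x, hx⟩ from hy ⟨x, hx⟩, ht,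
    gF_res π M (hg ⟨x, hx⟩) x (hxg ⟨x, hx⟩) s]

theorem Θ_bijective (hX : HensSch.IsSph A I X π) (f : A) : Function.Bijective (Θ π M (HensSch.dOpen π f)) :=
  ⟨Θ_injective π M hX f, Θ_surjective π M hX f⟩

/-- The universal property of the sections over a basic open. -/
theorem existsUnique_lift (hX : HensSch.IsSph A I X π) (f : A) (P : Type u) [AddCommGroup P]
    [Module (Sec π (HensSch.dOpen π f)) P] (ψ : M →+ P)
    (hψ : ∀ (a : A) (m : M), ψ (a • m) = algebraMap A (Sec π (HensSch.dOpen π f)) a • ψ m) :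
    ∃! χ : Mo π M (HensSch.dOpen π f) →ₗ[Sec π (HensSch.dOpen π f)] P, ∀ m : M, χ (θ π M (HensSch.dOpen π f) m) = ψ m := by
  let φ : Sec π (HensSch.dOpen π f) ⊗[A] M →+ P := TensorProduct.liftAddHom
    { toFun := fun r => { toFun := fun m => r • ψ m, map_zero' := by simp, map_add' := fun m n => by rw [map_add, smul_add] }
      map_zero' := AddMonoidHom.ext fun m => zero_smul _ _
      map_add' := fun r s => AddMonoidHom.ext fun m => add_smul _ _ _ }
    (fun a r m => by
      show (a • r) • ψ m = r • ψ (a • m)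
      rw [hψ a m, Algebra.smul_def, mul_comm, mul_smul])
  let Θe := AddEquiv.ofBijective _ (Θ_bijective π M hX f)
  have hsmul : ∀ (r : Sec π (HensSch.dOpen π f)) t, φ (r • t) = r • φ t := fun r t => by
    induction t using TensorProduct.induction_on with
    | zero => simp
    | add a b ha hb => rw [smul_add, map_add, map_add, ha, hb, smul_add]
    | tmul s m => rw [TensorProduct.smul_tmul']; exact mul_smul r s (ψ m)
  have hθ : ∀ m : M, (Θe.symm (θ π M (HensSch.dOpen π f) m)) = (1 : Sec π (HensSch.dOpen π f)) ⊗ₜ[A] m := fun m => by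
    rw [AddEquiv.symm_apply_eq]
    exact (one_smul (Sec π (HensSch.dOpen π f)) (θ π M (HensSch.dOpen π f) m)).symm
  refine ⟨{ toFun := fun s => φ (Θe.symm s), map_add' := fun s t => by rw [map_add, map_add],
            map_smul' := fun r s => ?_ }, fun m => ?_, fun χ hχ => ?_⟩
  · have e : Θe.symm (r • s) = (show Sec π (HensSch.dOpen π f) from r) • Θe.symm s := by
      rw [AddEquiv.symm_apply_eq]
      exact ((Θ_smul π M (HensSch.dOpen π f) _ _).trans (congrArg _ (Θe.apply_symm_apply s))).symm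
    rw [RingHom.id_apply, e]
    exact hsmul _ _
  · show φ (Θe.symm (θ π M (HensSch.dOpen π f) m)) = ψ m
    rw [hθ]
    exact one_smul _ _
  · refine LinearMap.ext fun s => ?_
    obtain ⟨t, rfl⟩ := Θe.surjective s
    show χ (Θe t) = φ (Θe.symm (Θe t))
    rw [Θe.symm_apply_apply]
    induction t using TensorProduct.induction_on with
    | zero => rw [map_zero, map_zero, map_zero]
    | add a b ha hb => rw [map_add, map_add, map_add, ha, hb]
    | tmul r m =>
      show χ (r • θ π M (HensSch.dOpen π f) m) = r • ψ m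
      rw [← hχ m]
      exact map_smul χ r _

end HensGlueLib
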