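import Groth.Agent.HensSchFFLib.ModPow

/-!
# Stalks of the module attached to a module over a ring
-/

set_option autoImplicit false
set_option maxHeartbeats 1000000
set_option linter.style.haveILetI false
set_option backward.isDefEq.respectTransparency false
set_option backward.isDefEq.respectTransparency.types false
universe u

open CategoryTheory TopologicalSpace Opposite AlgebraicGeometry

noncomputable section

namespace HensGlueLib.TildeStalk

variable {R : CommRingCat.{u}} (M : ModuleCat.{u} R)

/-- The canonical global sections. -/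
abbrev m₀ (m : M) : Γ(tilde M, ⊤) := ((tilde.adjunction (R := R)).unit.app M).hom m

/-- Germs of the canonical global sections. -/
def l (p : Spec R) (m : M) : HensSchFFLib.st (X := Spec R) (tilde M) p :=
  HensSchFFLib.gr (X := Spec R) (tilde M) p (U := (⊤ : (Spec R).Opens)) trivial (m₀ M m)

theorem l_add (p : Spec R) (m n : M) : l M p (m + n) = l M p m + l M p n := by
  unfold l
  rw [← HensSchFFLib.gr_add]
  congr 1
  exact map_add _ _ _

theorem l_smul (p : Spec R) (a : R) (m : M) :
    l M p (a • m) = (StructureSheaf.toStalk R p).hom a • l M p m := by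
  unfold l
  rw [show m₀ M (a • m) = a • m₀ M m from map_smul ((tilde.adjunction (R := R)).unit.app M).hom a m,
    Scheme.Modules.smul_Spec_def, HensSchFFLib.gr_smul]
  congr 1

/-- The stalk is the localized module. -/
theorem isLocalizedModule (p : Spec R) [Module R (HensSchFFLib.st (X := Spec R) (tilde M) p)]
    (lA : M →ₗ[R] HensSchFFLib.st (X := Spec R) (tilde M) p) (hl : ∀ m, lA m = l M p m)
    (hsmul : ∀ (a : R) (y : HensSchFFLib.st (X := Spec R) (tilde M) p),
      a • y = (StructureSheaf.toStalk R p).hom a • y) :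
    IsLocalizedModule (p : PrimeSpectrum R).asIdeal.primeCompl lA := by
  let q : PrimeSpectrum R := p
  let Op := (Spec R).presheaf.stalk p
  letI : Algebra R Op := (StructureSheaf.toStalk R p).hom.toAlgebra
  haveI hloc : IsLocalization.AtPrime Op q.asIdeal := StructureSheaf.IsLocalization.to_stalk R p
  refine ⟨fun s => ?_, fun y => ?_, fun {m n} h => ?_⟩
  · rw [Module.End.isUnit_iff]
    obtain ⟨v, hv⟩ := IsLocalization.map_units Op (s : q.asIdeal.primeCompl)
    have hs : ∀ z : HensSchFFLib.st (X := Spec R) (tilde M) p, s.1 • z = (v : Op) • z := fun z => by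
      rw [hsmul, hv]; rfl
    constructor
    · intro a b hab
      have hab' : (v : Op) • a = (v : Op) • b := by rw [← hs, ← hs]; exact hab
      have := congrArg ((v⁻¹ : Opˣ).val • ·) hab'
      simpa [smul_smul] using this
    · intro b
      refine ⟨(v⁻¹ : Opˣ).val • b, ?_⟩
      show s.1 • _ = b
      rw [hs]
      show (v : Op) • ((v⁻¹ : Opˣ).val • b) = b
      rw [smul_smul, Units.mul_inv, one_smul]
  · obtain ⟨U, hU, σ, rfl⟩ := (tilde M).presheaf.exists_germ_eq (x := p) y
    obtain ⟨_, ⟨h, rfl⟩, hph, hhU⟩ :=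
      (PrimeSpectrum.isTopologicalBasis_basic_opens (R := R)).exists_subset_of_mem_open hU U.isOpen
    obtain ⟨⟨m, ⟨_, n, rfl⟩⟩, hm⟩ := IsLocalizedModule.surj (Submonoid.powers h)
      (tilde.toOpen M (PrimeSpectrum.basicOpen h)).hom
      ((tilde M).presheaf.map (homOfLE (show PrimeSpectrum.basicOpen h ≤ U from hhU)).op σ)
    refine ⟨⟨m, ⟨h ^ n, fun hm' => hph (q.isPrime.mem_of_pow_mem n hm')⟩⟩, ?_⟩
    show (h ^ n) • (HensSchFFLib.gr (tilde M) p hU σ) = lA m
    rw [hl, hsmul]
    have e := congrArg (fun z => HensSchFFLib.gr (X := Spec R) (tilde M) p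
      (U := PrimeSpectrum.basicOpen h) hph z) hm
    refine Eq.trans ?_ (e.trans (HensSchFFLib.gr_res (tilde M) (le_top (a := PrimeSpectrum.basicOpen h)) p hph (m₀ M m)))
    show _ = HensSchFFLib.gr (tilde M) p hph (h ^ n • _)
    rw [Scheme.Modules.smul_Spec_def, HensSchFFLib.gr_smul, HensSchFFLib.gr_res]
    congr 1
    refine Eq.symm ((TopCat.Presheaf.germ_res_apply (Spec R).presheaf _ p hph _).trans ?_)
    exact StructureSheaf.algebraMap_germ_apply (R := R) ⊤ p trivial _
  · rw [hl, hl] at h
    obtain ⟨W, hW, i₁, i₂, e⟩ := TopCat.Presheaf.germ_eq (tilde M).presheaf p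
      (U := ⊤) (V := ⊤) trivial trivial (m₀ M m) (m₀ M n) h
    obtain ⟨_, ⟨k, rfl⟩, hpk, hkW⟩ :=
      (PrimeSpectrum.isTopologicalBasis_basic_opens (R := R)).exists_subset_of_mem_open hW W.isOpen
    have e2 := congrArg ((tilde M).presheaf.map (homOfLE (show PrimeSpectrum.basicOpen k ≤ W from hkW)).op) e
    have e3 : (tilde.toOpen M (PrimeSpectrum.basicOpen k)).hom m =
        (tilde.toOpen M (PrimeSpectrum.basicOpen k)).hom n := e2
    obtain ⟨⟨_, j, rfl⟩, hj⟩ := IsLocalizedModule.exists_of_eq (S := Submonoid.powers k) e3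
    exact ⟨⟨k ^ j, fun hm' => hpk (q.isPrime.mem_of_pow_mem j hm')⟩, hj⟩

end HensGlueLib.TildeStalk
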