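import Groth.Agent.HensGlueLib.Colim
import Groth.Agent.HensGlueLib.TildeStalk

/-!
# Stalks of the module attached to a module on an affine Henselian spectrum
-/

set_option autoImplicit false
set_option maxHeartbeats 1000000
set_option linter.style.haveILetI false
set_option linter.unusedSectionVars false
set_option backward.isDefEq.respectTransparency false
set_option backward.isDefEq.respectTransparency.types false
universe u

open CategoryTheory TopologicalSpace Opposite AlgebraicGeometry
open scoped TensorProduct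

noncomputable section

namespace HensGlueLib

variable {A : Type u} [CommRing A] {X : LocallyRingedSpace.{u}} (π : X ⟶ HensSch.specLRS A) (M : ModuleCat.{u} A)

/-- Sections of the module. -/
abbrev Mo (U : Opens X) : Type u := (HensSch.sphTilde π M).val.obj (op U)

instance (U : Opens X) : Module (Sec π U) (Mo π M U) :=
  inferInstanceAs (Module ((ModSite.ringSh X.sheaf).obj.obj (op U)) (Mo π M U))

/-- Restriction of sections of the module. -/
def resM {U V : Opens X} (h : V ≤ U) : Mo π M U →+ Mo π M V where
  toFun s := ((HensSch.sphTilde π M).val.map (homOfLE h).op).hom s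
  map_zero' := map_zero _
  map_add' := map_add _

theorem resM_smul {U V : Opens X} (h : V ≤ U) (r : Sec π U) (s : Mo π M U) :
    resM π M h (r • s) = res π h r • resM π M h s :=
  PresheafOfModules.map_smul (HensSch.sphTilde π M).val (homOfLE h).op r s

theorem resM_resM {U V W : Opens X} (h : V ≤ U) (h' : W ≤ V) (s : Mo π M U) :
    resM π M h' (resM π M h s) = resM π M (h'.trans h) s :=
  (ConcreteCategory.congr_hom ((HensSch.sphTilde π M).val.presheaf.map_comp (homOfLE h).op (homOfLE h').op) s).symm

/-- The canonical global sections. -/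
def θ₀ (m : M) : Mo π M ((Opens.map π.base).obj ⊤) :=
  (((HensSch.pullPushAdj π).unit.app (tilde M)).val.app (op ⊤)).hom
    (((tilde.adjunction (R := CommRingCat.of A)).unit.app M).hom m)

theorem θ₀_add (m n : M) : θ₀ π M (m + n) = θ₀ π M m + θ₀ π M n := by
  unfold θ₀
  rw [map_add]
  exact map_add _ _ _

theorem θ₀_smul (a : A) (m : M) :
    θ₀ π M (a • m) = (algebraMap A (Sec π ((Opens.map π.base).obj ⊤)) a) • θ₀ π M m := by
  unfold θ₀
  rw [map_smul]
  refine (map_smul (((HensSch.pullPushAdj π).unit.app (tilde M)).val.app (op ⊤)).hom _ _).trans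
    (congrArg (fun z : Sec π ((Opens.map π.base).obj ⊤) => z • θ₀ π M m) ?_)
  show (π.c.app (op ⊤)).hom _ = secA π _ a
  simp only [secA, RingHom.comp_apply]
  rw [show (homOfLE (le_top : (Opens.map π.base).obj ⊤ ≤ (Opens.map π.base).obj ⊤)).op = 𝟙 _ from rfl, X.presheaf.map_id]
  show (π.c.app (op ⊤)).hom _ = (π.c.app (op ⊤)).hom _
  congr 1

/-- The canonical sections. -/
def θ (U : Opens X) : M →+ Mo π M U where
  toFun m := resM π M (le_top : U ≤ (Opens.map π.base).obj ⊤) (θ₀ π M m)
  map_zero' := by
    have : θ₀ π M 0 = 0 := by simpa using θ₀_add π M 0 0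
    rw [this, map_zero]
  map_add' m n := by rw [θ₀_add, map_add]

theorem θ_smul (U : Opens X) (a : A) (m : M) : θ π M U (a • m) = algebraMap A (Sec π U) a • θ π M U m := by
  show resM π M _ _ = _
  rw [θ₀_smul, resM_smul]
  exact congrArg (fun z : Sec π U => z • resM π M (le_top : U ≤ (Opens.map π.base).obj ⊤) (θ₀ π M m))
    ((res π (le_top : U ≤ (Opens.map π.base).obj ⊤)).commutes a)

theorem θ_res {U V : Opens X} (h : V ≤ U) (m : M) : resM π M h (θ π M U m) = θ π M V m :=
  resM_resM π M _ h _

/-- Scalars times canonical sections. -/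
def Θ (U : Opens X) : Sec π U ⊗[A] M →+ Mo π M U :=
  TensorProduct.liftAddHom
    { toFun := fun r => { toFun := fun m => r • θ π M U m, map_zero' := by simp, map_add' := fun m n => by rw [map_add, smul_add] }
      map_zero' := AddMonoidHom.ext fun m => zero_smul _ _
      map_add' := fun r s => AddMonoidHom.ext fun m => add_smul _ _ _ }
    (fun a r m => by
      show (a • r) • θ π M U m = r • θ π M U (a • m)
      rw [θ_smul, smul_smul, Algebra.smul_def, mul_comm])

theorem Θ_tmul (U : Opens X) (r : Sec π U) (m : M) : Θ π M U (r ⊗ₜ m) = r • θ π M U m := rfl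

theorem Θ_smul (U : Opens X) (r : Sec π U) (t : Sec π U ⊗[A] M) : Θ π M U (r • t) = r • Θ π M U t := by
  induction t using TensorProduct.induction_on with
  | zero => simp
  | add a b ha hb => rw [smul_add, map_add, map_add, ha, hb, smul_add]
  | tmul s m => rw [TensorProduct.smul_tmul', Θ_tmul, Θ_tmul, smul_smul, smul_eq_mul]

theorem resM_Θ {U V : Opens X} (h : V ≤ U) (t : Sec π U ⊗[A] M) :
    resM π M h (Θ π M U t) = Θ π M V (resT π M h t) := by
  induction t using TensorProduct.induction_on with
  | zero => simp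
  | add a b ha hb => simp only [map_add, ha, hb]
  | tmul s m =>
    rw [LinearMap.rTensor_tmul, Θ_tmul, Θ_tmul, resM_smul, θ_res]
    rfl

/-- Stalks of the module. -/
abbrev StM (x : X) : Type u := HensSchFFLib.hst π (tilde M) x

instance (x : X) : Module (Stk π x) (StM π M x) :=
  inferInstanceAs (Module (X.presheaf.stalk x) (StM π M x))

/-- Germs of sections of the module. -/
def gF {U : Opens X} (x : X) (hx : x ∈ U) : Mo π M U →+ StM π M x :=
  ((FlatMorLib.prs X.sheaf (HensSchFFLib.hp π (tilde M))).germ U x hx).hom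

theorem gF_smul {U : Opens X} (x : X) (hx : x ∈ U) (r : Sec π U) (s : Mo π M U) :
    gF π M x hx (r • s) = germA π x hx r • gF π M x hx s :=
  PresheafOfModules.germ_smul (R := X.presheaf) (FlatMorLib.valC X.sheaf (HensSchFFLib.hp π (tilde M))) x U hx r s

theorem gF_res {U V : Opens X} (h : V ≤ U) (x : X) (hx : x ∈ V) (s : Mo π M U) :
    gF π M x hx (resM π M h s) = gF π M x (h hx) s :=
  TopCat.Presheaf.germ_res_apply (FlatMorLib.prs X.sheaf (HensSchFFLib.hp π (tilde M))) (homOfLE h) x hx s

/-- The germs of the canonical sections. -/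
def gθ (x : X) : M →+ StM π M x := (gF π M x (Opens.mem_top x)).comp (θ π M ⊤)

theorem gF_θ {U : Opens X} (x : X) (hx : x ∈ U) (m : M) : gF π M x hx (θ π M U m) = gθ π M x m := by
  rw [← θ_res π M (le_top : U ≤ ⊤), gF_res]
  rfl

theorem gθ_smul (x : X) (a : A) (m : M) : gθ π M x (a • m) = algebraMap A (Stk π x) a • gθ π M x m := by
  show gF π M x _ (θ π M ⊤ (a • m)) = _
  rw [θ_smul, gF_smul, AlgHom.commutes]
  rfl

/-- The stalk as a base change. -/
def Ψ (x : X) : Stk π x ⊗[A] M →+ StM π M x :=
  TensorProduct.liftAddHom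
    { toFun := fun r => { toFun := fun m => r • gθ π M x m, map_zero' := by simp, map_add' := fun m n => by rw [map_add, smul_add] }
      map_zero' := AddMonoidHom.ext fun m => zero_smul _ _
      map_add' := fun r s => AddMonoidHom.ext fun m => add_smul _ _ _ }
    (fun a r m => by
      show (a • r) • gθ π M x m = r • gθ π M x (a • m)
      rw [gθ_smul, smul_smul, Algebra.smul_def, mul_comm])

theorem Ψ_tmul (x : X) (r : Stk π x) (m : M) : Ψ π M x (r ⊗ₜ m) = r • gθ π M x m := rfl

theorem gF_Θ {U : Opens X} (x : X) (hx : x ∈ U) (t : Sec π U ⊗[A] M) :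
    gF π M x hx (Θ π M U t) = Ψ π M x (germT π M x hx t) := by
  induction t using TensorProduct.induction_on with
  | zero => simp
  | add a b ha hb => simp only [map_add, ha, hb]
  | tmul s m =>
    rw [LinearMap.rTensor_tmul, Θ_tmul, Ψ_tmul, gF_smul, gF_θ]
    rfl

/-- The stalk of an inverse image is a linear base change. -/
theorem tens_smul {S : Scheme.{u}} {Sh : LocallyRingedSpace.{u}} (ι : Sh ⟶ S.toLocallyRingedSpace) (N : S.Modules) (y : Sh)
    (r : Sh.presheaf.stalk y) :
    letI := HensSchFFLib.stAlg ι y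
    ∀ t : Sh.presheaf.stalk y ⊗[S.presheaf.stalk (ι.base y)] HensSchFFLib.st N (ι.base y),
      HensSchFFLib.tens ι N y (r • t) = (HSMul.hSMul r (HensSchFFLib.tens ι N y t) : HensSchFFLib.hst ι N y) := by
  intro t
  exact map_smul ((FlatMorLib.stalkPullIso ι.base Sh.sheaf S.sheaf ⟨ι.c⟩ y).inv.app N).hom r t

theorem gF_θ₀ (x : X) (m : M) :
    gF π M x (U := (Opens.map π.base).obj ⊤) trivial (θ₀ π M m) = gθ π M x m := by
  have hθ : θ π M ((Opens.map π.base).obj ⊤) m = θ₀ π M m :=
    ConcreteCategory.congr_hom ((HensSch.sphTilde π M).val.presheaf.map_id (op ((Opens.map π.base).obj ⊤))) (θ₀ π M m)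
  rw [← hθ, gF_θ]

/-- The base change on the canonical germs. -/
theorem tens_l (x : X) (m : M) :
    letI := HensSchFFLib.stAlg (X := Spec (CommRingCat.of A)) π x
    HensSchFFLib.tens (X := Spec (CommRingCat.of A)) π (tilde (R := CommRingCat.of A) M) x
      ((1 : X.presheaf.stalk x) ⊗ₜ[(Spec (CommRingCat.of A)).presheaf.stalk (π.base x)]
        TildeStalk.l (R := CommRingCat.of A) M (π.base x) m) = gθ π M x m := by
  refine Eq.trans ?_ (gF_θ₀ π M x m)
  exact HensSchFFLib.tens_germ (X := Spec (CommRingCat.of A)) π (tilde (R := CommRingCat.of A) M) x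
    (U := (⊤ : (Spec (CommRingCat.of A)).Opens)) trivial (TildeStalk.m₀ (R := CommRingCat.of A) M m)

theorem Ψ_bijective (x : X) : Function.Bijective (Ψ π M x) := by
  let p : PrimeSpectrum A := π.base x
  let Op := (Spec (CommRingCat.of A)).presheaf.stalk p
  let N : Type u := HensSchFFLib.st (X := Spec (CommRingCat.of A)) (tilde M) p
  letI : Algebra A Op := (StructureSheaf.toStalk A p).hom.toAlgebra
  haveI hloc : IsLocalization.AtPrime Op p.asIdeal := StructureSheaf.IsLocalization.to_stalk A p
  letI : Module A N := Module.compHom N (StructureSheaf.toStalk A p).hom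
  haveI : IsScalarTower A Op N := IsScalarTower.of_algebraMap_smul fun _ _ => rfl
  letI : Algebra Op (X.presheaf.stalk x) := HensSchFFLib.stAlg π x
  letI : Algebra Op (Stk π x) := RingHom.toAlgebra ((π.stalkMap x).hom : Op →+* Stk π x)
  haveI : IsScalarTower A Op (Stk π x) := IsScalarTower.of_algebraMap_eq fun _ => rfl
  let lA : M →ₗ[A] N := { toFun := TildeStalk.l (R := CommRingCat.of A) M p, map_add' := TildeStalk.l_add (R := CommRingCat.of A) M p, map_smul' := TildeStalk.l_smul (R := CommRingCat.of A) M p }
  haveI : IsLocalizedModule p.asIdeal.primeCompl lA :=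
    TildeStalk.isLocalizedModule (R := CommRingCat.of A) M p lA (fun _ => rfl) fun _ _ => rfl
  have hbc := ((isLocalizedModule_iff_isBaseChange p.asIdeal.primeCompl Op lA).1 inferInstance).comp
    (TensorProduct.isBaseChange Op N (Stk π x))
  have key : ∀ t, Ψ π M x t = HensSchFFLib.tens π (tilde M) x (hbc.equiv t) := fun t => by
    induction t using TensorProduct.induction_on with
    | zero => simp
    | add a b ha hb => simp only [map_add, ha, hb]
    | tmul r m =>
      rw [Ψ_tmul, IsBaseChange.equiv_tmul]
      have e1 : HensSchFFLib.tens π (tilde M) x ((1 : Stk π x) ⊗ₜ[Op] lA m) = gθ π M x m := tens_l π M x m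
      rw [← e1]
      exact (tens_smul π (tilde M) x r _).symm
  rw [show (Ψ π M x : Stk π x ⊗[A] M → StM π M x) = HensSchFFLib.tens π (tilde M) x ∘ hbc.equiv from funext key]
  exact (HensSchFFLib.tens_bijective π (tilde M) x).comp hbc.equiv.bijective

end HensGlueLib
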